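import Cfsg.Agent.Lib.K41.ExtForm.Alg

/-!
Hermitian endomorphisms of a field extension of odd prime degree with an involution: an additive
family containing the real multiplications, stable under the real congruences and one rotation,
contains the trace map as soon as it is stable under a congruence which is not semilinear.
Owner: helper95.
-/
set_option autoImplicit false
set_option linter.unusedSectionVars false
set_option linter.style.haveILetI false

namespace Cfsg.Agent.Lib.UnitExt

open Module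
open Cfsg.Agent.Lib.K41.ExtForm (adj adj_spec adj_eq adj_mul adj_add adj_mu adj_one adj_aut rep
  rep_apply rep_single exists_rep mem_range_of_fixed piMap piMap_eq orderOf_gal gal_comm)

variable {F K : Type*} [Field F] [Field K] [Algebra F K] [Finite F] [Finite K]

local notation "E" => Module.End F K
local notation "mu" => (Algebra.lmul F K)
local notation "Gal'" => (K ≃ₐ[F] K)

/-- Two ring endomorphisms of a finite field commute. -/
theorem ringHom_comm (f g : K →+* K) (x : K) : f (g x) = g (f x) := by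
  rcases eq_or_ne x 0 with rfl | hx
  · simp
  haveI := Fintype.ofFinite K
  obtain ⟨z, hz⟩ := IsCyclic.exists_generator (α := Kˣ)
  obtain ⟨i, hi⟩ := Subgroup.mem_zpowers_iff.1 (hz (Units.map f.toMonoidHom z))
  obtain ⟨j, hj⟩ := Subgroup.mem_zpowers_iff.1 (hz (Units.map g.toMonoidHom z))
  obtain ⟨k, hk⟩ := Subgroup.mem_zpowers_iff.1 (hz (Units.mk0 x hx))
  have h : Units.map f.toMonoidHom (Units.map g.toMonoidHom (Units.mk0 x hx)) =
      Units.map g.toMonoidHom (Units.map f.toMonoidHom (Units.mk0 x hx)) := by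
    rw [← hk, map_zpow, map_zpow, map_zpow, map_zpow, ← hi, ← hj, map_zpow, map_zpow, ← hi, ← hj,
      ← zpow_mul, ← zpow_mul, ← zpow_mul, ← zpow_mul, mul_left_comm i j k]
  exact congrArg Units.val h

/-- An involution of `K` stabilising `F`, non-trivially. -/
structure Inv (F K : Type*) [Field F] [Field K] [Algebra F K] where
  s : K →+* K
  invol : ∀ x, s (s x) = x
  σF : F →+* F
  compat : ∀ t, s (algebraMap F K t) = algebraMap F K (σF t)
  ω : F
  move : σF ω ≠ ω

namespace Inv

variable (J : Inv F K)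

theorem s_aut (τ : Gal') (x : K) : J.s (τ x) = τ (J.s x) :=
  ringHom_comm J.s (τ : K →ₐ[F] K).toRingHom x

theorem s_omega : J.s (algebraMap F K J.ω) ≠ algebraMap F K J.ω := by
  rw [J.compat]
  exact fun h => J.move ((algebraMap F K).injective h)

theorem exists_coords (x : K) :
    ∃ a b : K, J.s a = a ∧ J.s b = b ∧ x = a + algebraMap F K J.ω * b := by
  set w := algebraMap F K J.ω
  have h : w - J.s w ≠ 0 := sub_ne_zero.2 (Ne.symm J.s_omega)
  refine ⟨x - w * ((x - J.s x) / (w - J.s w)), (x - J.s x) / (w - J.s w), ?_, ?_, by ring⟩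
  · simp only [map_sub, map_mul, map_div₀, J.invol]
    rw [show J.s x - x = -(x - J.s x) by ring, show J.s w - w = -(w - J.s w) by ring, neg_div_neg_eq]
    field_simp
    ring
  · simp only [map_sub, map_div₀, J.invol]
    rw [show J.s x - x = -(x - J.s x) by ring, show J.s w - w = -(w - J.s w) by ring, neg_div_neg_eq]

/-- Real numbers determine automorphisms. -/
theorem aut_ext {τ π : Gal'} (h : ∀ c, J.s c = c → τ c = π c) : τ = π := AlgEquiv.ext fun x => by
  obtain ⟨a, b, ha, hb, rfl⟩ := J.exists_coords x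
  rw [map_add, map_add, map_mul, map_mul, AlgEquiv.commutes, AlgEquiv.commutes, h a ha, h b hb]

theorem exists_real_moved {τ : Gal'} (hτ : τ ≠ 1) : ∃ c, J.s c = c ∧ τ c ≠ c := by
  by_contra h
  push Not at h
  exact hτ (J.aut_ext h)

theorem trace_s [Fintype Gal'] (x : K) :
    Algebra.trace F K (J.s x) = J.σF (Algebra.trace F K x) := by
  haveI : FiniteDimensional F K := Module.Finite.of_finite
  apply (algebraMap F K).injective
  rw [← J.compat, trace_eq_sum_automorphisms, trace_eq_sum_automorphisms, map_sum]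
  exact Finset.sum_congr rfl fun τ _ => (J.s_aut τ x).symm

/-- `X ↦ s X s`. -/
def conj (X : E) : E where
  toFun x := J.s (X (J.s x))
  map_add' a b := by simp
  map_smul' t a := by
    have hσ : J.σF (J.σF t) = t := (algebraMap F K).injective (by
      rw [← J.compat, ← J.compat, J.invol])
    rw [Algebra.smul_def, map_mul, J.compat, ← Algebra.smul_def, map_smul, Algebra.smul_def, map_mul,
      J.compat, hσ, RingHom.id_apply, ← Algebra.smul_def]

theorem conj_apply (X : E) (x : K) : J.conj X x = J.s (X (J.s x)) := rfl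

theorem conj_mul (X Y : E) : J.conj (X * Y) = J.conj X * J.conj Y :=
  LinearMap.ext fun x => by simp [conj_apply, J.invol]

/-- The adjoint for the hermitian trace pairing. -/
noncomputable def hadj (Q : E) : E := J.conj (adj Q)

theorem hadj_spec (Q : E) (a b : K) :
    Algebra.trace F K (Q a * J.s b) = Algebra.trace F K (a * J.s (J.hadj Q b)) := by
  rw [hadj, conj_apply, J.invol, adj_spec]

theorem hadj_eq {Q Q' : E}
    (h : ∀ a b, Algebra.trace F K (Q a * J.s b) = Algebra.trace F K (a * J.s (Q' b))) :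
    J.hadj Q = Q' := by
  refine LinearMap.ext fun b => ?_
  have h1 : J.s (J.hadj Q b) = J.s (Q' b) :=
    Cfsg.Agent.Lib.K41.ExtForm.trace_ext (F := F) fun a => by rw [← hadj_spec, h]
  exact J.s.injective h1

theorem hadj_mul (P Q : E) : J.hadj (P * Q) = J.hadj Q * J.hadj P := by
  rw [hadj, adj_mul, conj_mul]; rfl

theorem hadj_add (P Q : E) : J.hadj (P + Q) = J.hadj P + J.hadj Q :=
  LinearMap.ext fun x => by simp [hadj, adj_add, conj_apply]

theorem hadj_hadj (Q : E) : J.hadj (J.hadj Q) = Q := by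
  haveI := Fintype.ofFinite Gal'
  refine J.hadj_eq fun a b => ?_
  have h := congrArg J.σF (J.hadj_spec Q b a)
  rw [← J.trace_s, ← J.trace_s] at h
  simp only [map_mul, J.invol] at h
  rw [mul_comm _ (J.s b), mul_comm a]
  exact h.symm

theorem hadj_mu (c : K) : J.hadj (mu c) = mu (J.s c) :=
  LinearMap.ext fun x => by rw [hadj, adj_mu, conj_apply]; simp [J.invol]

theorem hadj_aut (τ : Gal') : J.hadj τ.toLinearMap = (τ⁻¹ : Gal').toLinearMap :=
  LinearMap.ext fun x => by
    rw [hadj, adj_aut, conj_apply, AlgEquiv.toLinearMap_apply, AlgEquiv.toLinearMap_apply, J.s_aut,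
      J.invol]
    rfl

/-- The symmetrisation of `x ↦ k * τ x`. -/
noncomputable def pr (τ : Gal') (k : K) : E :=
  mu k * τ.toLinearMap + mu (τ⁻¹ (J.s k)) * (τ⁻¹ : Gal').toLinearMap

theorem hadj_term (τ : Gal') (k : K) :
    J.hadj (mu k * τ.toLinearMap) = mu (τ⁻¹ (J.s k)) * (τ⁻¹ : Gal').toLinearMap := by
  rw [hadj_mul, hadj_mu, hadj_aut]
  exact LinearMap.ext fun x => by simp

end Inv

theorem rep_injective [Fintype Gal'] {a b : Gal' → K} (h : rep a = rep b) : a = b := by
  have hli : LinearIndependent K fun σ : Gal' => (σ : K →ₐ[F] K).toLinearMap :=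
    (linearIndependent_algHom_toLinearMap F K K).comp _ AlgEquiv.coe_toAlgHom_injective
  funext σ
  refine sub_eq_zero.1 (Fintype.linearIndependent_iff.1 hli (fun τ => a τ - b τ) ?_ σ)
  refine LinearMap.ext fun x => ?_
  have h1 := LinearMap.congr_fun h x
  rw [rep_apply, rep_apply] at h1
  simp [LinearMap.sum_apply, sub_mul, Finset.sum_sub_distrib, h1]

theorem rep_add [Fintype Gal'] (a b : Gal' → K) : rep (a + b) = rep a + rep b := by
  simp [rep, add_mul, Finset.sum_add_distrib]

theorem rep_sub [Fintype Gal'] (a b : Gal' → K) : rep (a - b) = rep a - rep b := by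
  simp [rep, sub_mul, Finset.sum_sub_distrib]

theorem rep_mul_single [Fintype Gal'] (a : Gal' → K) (σ : Gal') (k : K) :
    rep a * (mu k * σ.toLinearMap) = rep fun π => a (π * σ⁻¹) * (π * σ⁻¹) k := by
  refine LinearMap.ext fun x => ?_
  rw [Module.End.mul_apply, rep_apply, rep_apply]
  refine (Equiv.sum_comp (Equiv.mulRight σ⁻¹) _).symm.trans (Finset.sum_congr rfl fun π _ => ?_)
  simp [mul_assoc]

theorem Inv.hadj_rep (J : Inv F K) [Fintype Gal'] (a : Gal' → K) :
    J.hadj (rep a) = rep fun π => π (J.s (a π⁻¹)) := by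
  classical
  rw [rep, rep, ← Equiv.sum_comp (Equiv.inv Gal') fun π : Gal' => mu (π (J.s (a π⁻¹))) * π.toLinearMap]
  let f : E →+ E := AddMonoidHom.mk' J.hadj J.hadj_add
  show f _ = _
  rw [map_sum]
  refine Finset.sum_congr rfl fun τ _ => ?_
  show J.hadj _ = _
  rw [J.hadj_term]
  simp

/-- An additive family of hermitian maps with the real multiplications, stable under the real
congruences and under one rotation. -/
structure Family (J : Inv F K) (U : AddSubgroup E) : Prop where
  mu_mem : ∀ c, J.s c = c → mu c ∈ U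
  conj_mem : ∀ c, J.s c = c → ∀ S ∈ U, mu c * S * mu c ∈ U
  sym : ∀ S ∈ U, J.hadj S = S
  rot : ∃ d : K, d / J.s d ∉ Set.range (algebraMap F K) ∧ ∀ S ∈ U, mu d * S * mu (J.s d) ∈ U

variable {J : Inv F K} {U : AddSubgroup (Module.End F K)}

theorem Family.pr_eq [Fintype Gal'] [DecidableEq Gal'] (τ : Gal') (k : K) :
    J.pr τ k = rep (Pi.single τ k + Pi.single τ⁻¹ (τ⁻¹ (J.s k))) := by
  rw [rep_add, rep_single, rep_single]; rfl

/-- The functions acting coordinatewise on the family, with real values. -/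
noncomputable def coordRing [Fintype Gal'] (J : Inv F K) (U : AddSubgroup (Module.End F K)) :
    Subring (Gal' → K) where
  carrier := {α | (∀ τ, J.s (α τ) = α τ) ∧ ∀ a, rep a ∈ U → rep (α * a) ∈ U}
  mul_mem' := fun {α β} hα hβ => ⟨fun τ => by simp [map_mul, hα.1 τ, hβ.1 τ],
    fun a ha => by rw [mul_assoc]; exact hα.2 _ (hβ.2 a ha)⟩
  one_mem' := ⟨fun τ => by simp, fun a ha => by rwa [one_mul]⟩
  add_mem' := fun {α β} hα hβ => ⟨fun τ => by simp [map_add, hα.1 τ, hβ.1 τ],
    fun a ha => by rw [add_mul, rep_add]; exact U.add_mem (hα.2 a ha) (hβ.2 a ha)⟩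
  zero_mem' := ⟨fun τ => by simp, fun a _ => by simp [rep, U.zero_mem]⟩
  neg_mem' := fun {α} hα => ⟨fun τ => by simp [map_neg, hα.1 τ], fun a ha => by
    have : rep (-α * a) = -rep (α * a) := by rw [neg_mul, ← zero_sub, rep_sub]; simp [rep]
    rw [this]; exact U.neg_mem (hα.2 a ha)⟩

theorem Family.prod_mem_coordRing [Fintype Gal'] (hU : Family J U) {c : K} (hc : J.s c = c) :
    (fun τ : Gal' => c * τ c) ∈ coordRing J U := by
  refine ⟨fun τ => by rw [map_mul, J.s_aut, hc], fun a ha => ?_⟩
  have h := hU.conj_mem c hc _ ha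
  convert h using 1
  refine LinearMap.ext fun x => ?_
  rw [Module.End.mul_apply, Module.End.mul_apply, rep_apply]
  simp only [Algebra.coe_lmul_eq_mul, LinearMap.mul_apply', rep_apply, Pi.mul_apply, map_mul]
  rw [Finset.mul_sum]
  exact Finset.sum_congr rfl fun τ _ => by ring

theorem Family.sum_mem_coordRing [Fintype Gal'] (hU : Family J U) {c : K} (hc : J.s c = c) :
    (fun τ : Gal' => c + τ c) ∈ coordRing J U := by
  have h := sub_mem (sub_mem (hU.prod_mem_coordRing (c := 1 + c) (by simp [hc]))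
    (hU.prod_mem_coordRing hc)) (one_mem (coordRing J U))
  convert h using 1
  funext τ
  simp [Pi.sub_apply, map_add]
  ring

theorem sq_ne_one (hr : (finrank F K).Prime) (hodd : Odd (finrank F K)) {σ : Gal'} (hσ : σ ≠ 1) :
    σ * σ ≠ 1 := fun h => by
  have h1 := orderOf_gal hr hσ
  have h2 : orderOf σ ∣ 2 := orderOf_dvd_of_pow_eq_one (by rw [pow_two, h])
  rw [h1] at h2
  have := Nat.le_of_dvd two_pos h2
  obtain ⟨k, hk⟩ := hodd
  have := hr.two_le
  omega

/-- Every real value occurs at a non-trivial coordinate. -/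
theorem Family.eval_surj [Fintype Gal'] (hr : (finrank F K).Prime) (hodd : Odd (finrank F K))
    (hU : Family J U) {σ : Gal'} (hσ : σ ≠ 1) {x : K} (hx : J.s x = x) :
    ∃ α ∈ coordRing J U, α σ = x := by
  classical
  let K0 : Subfield K := RingHom.eqLocusField J.s (RingHom.id K)
  have hK0 : ∀ y, y ∈ K0 ↔ J.s y = y := fun y => Iff.rfl
  let R : Subring K := (coordRing J U).map (Pi.evalRingHom (fun _ : Gal' => K) σ)
  have hRinv : ∀ y ∈ R, y⁻¹ ∈ R := by
    intro y hy
    rcases eq_or_ne y 0 with rfl | hy0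
    · simpa using R.zero_mem
    haveI := Fintype.ofFinite K
    have h : y ^ (Fintype.card K - 2) = y⁻¹ := by
      apply eq_inv_of_mul_eq_one_left
      rw [← pow_succ, show Fintype.card K - 2 + 1 = Fintype.card K - 1 by
        have := Fintype.one_lt_card (α := K); omega, FiniteField.pow_card_sub_one_eq_one y hy0]
    exact h ▸ pow_mem hy _
  let L : Subfield K := { R with inv_mem' := hRinv }
  have hL : ∀ y, y ∈ L ↔ y ∈ R := fun y => Iff.rfl
  have hLK : L ≤ K0 := by
    intro y hy
    obtain ⟨α, hα, rfl⟩ := Subring.mem_map.1 ((hL y).1 hy)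
    exact hα.1 σ
  suffices h : L = K0 by
    have hx' : x ∈ R := (hL x).1 (h ▸ (hK0 x).2 hx)
    exact Subring.mem_map.1 hx'
  -- cardinalities
  let F0 : Subfield F := RingHom.eqLocusField J.σF (RingHom.id F)
  let φ : F0 →+* K0 :=
    { toFun := fun t => ⟨algebraMap F K t.1, by
        rw [hK0, J.compat]; exact congrArg _ t.2⟩
      map_one' := Subtype.ext (by simp)
      map_mul' := fun a b => Subtype.ext (by simp)
      map_zero' := Subtype.ext (by simp)
      map_add' := fun a b => Subtype.ext (by simp) }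
  have hcardK : Nat.card K = Nat.card K0 ^ 2 := by
    let e : K0 × K0 → K := fun p => p.1.1 + algebraMap F K J.ω * p.2.1
    have he : Function.Bijective e := by
      refine ⟨fun p p' h => ?_, fun y => ?_⟩
      · have h' : p.1.1 + algebraMap F K J.ω * p.2.1 = p'.1.1 + algebraMap F K J.ω * p'.2.1 := h
        have h2 := congrArg J.s h'
        simp only [map_add, map_mul, (hK0 _).1 p.1.2, (hK0 _).1 p.2.2, (hK0 _).1 p'.1.2,
          (hK0 _).1 p'.2.2] at h2
        have h3 : (p.2.1 - p'.2.1) * (algebraMap F K J.ω - J.s (algebraMap F K J.ω)) = 0 := by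
          linear_combination h' - h2
        have h4 : p.2.1 = p'.2.1 := sub_eq_zero.1
          ((mul_eq_zero.1 h3).resolve_right (sub_ne_zero.2 (Ne.symm J.s_omega)))
        exact Prod.ext (Subtype.ext (by linear_combination h' - algebraMap F K J.ω * h4))
          (Subtype.ext h4)
      · obtain ⟨a, b, ha, hb, rfl⟩ := J.exists_coords y
        exact ⟨(⟨a, ha⟩, ⟨b, hb⟩), rfl⟩
    rw [← Nat.card_congr (Equiv.ofBijective e he), Nat.card_prod, pow_two]
  have hcardF : Nat.card F ≥ Nat.card F0 ^ 2 := by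
    let e : F0 × F0 → F := fun p => p.1.1 + J.ω * p.2.1
    have he : Function.Injective e := fun p p' h => by
      have h' : p.1.1 + J.ω * p.2.1 = p'.1.1 + J.ω * p'.2.1 := h
      have h2 := congrArg J.σF h'
      have hf : ∀ t : F0, J.σF t.1 = t.1 := fun t => t.2
      simp only [map_add, map_mul, hf] at h2
      have h3 : (p.2.1 - p'.2.1) * (J.ω - J.σF J.ω) = 0 := by linear_combination h' - h2
      have h4 : p.2.1 = p'.2.1 := sub_eq_zero.1
        ((mul_eq_zero.1 h3).resolve_right (sub_ne_zero.2 (Ne.symm J.move)))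
      exact Prod.ext (Subtype.ext (by linear_combination h' - J.ω * h4)) (Subtype.ext h4)
    calc Nat.card F0 ^ 2 = Nat.card (F0 × F0) := by rw [Nat.card_prod, pow_two]
      _ ≤ Nat.card F := Nat.card_le_card_of_injective e he
  have hcard : Nat.card F0 ^ 3 ≤ Nat.card K0 := by
    have h1 : Nat.card K = Nat.card F ^ finrank F K := Module.natCard_eq_pow_finrank
    have h3 : 3 ≤ finrank F K := by
      obtain ⟨k, hk⟩ := hodd
      have := hr.two_le
      omega
    have h4 : (Nat.card F0 ^ 3) ^ 2 ≤ Nat.card K0 ^ 2 := by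
      rw [← hcardK, h1, ← pow_mul]
      calc Nat.card F0 ^ (3 * 2) = (Nat.card F0 ^ 2) ^ 3 := by rw [← pow_mul]
        _ ≤ Nat.card F ^ 3 := Nat.pow_le_pow_left hcardF 3
        _ ≤ _ := Nat.pow_le_pow_right (Finite.one_lt_card (α := F)).le h3
    exact (Nat.pow_le_pow_iff_left two_ne_zero).1 h4
  -- the kernel of `c ↦ c + σ c`
  let ψ : K0 →+ L := AddMonoidHom.mk' (fun c => ⟨c.1 + σ c.1, (hL _).2 (Subring.mem_map.2
    ⟨_, hU.sum_mem_coordRing ((hK0 _).1 c.2), rfl⟩)⟩) fun a b => Subtype.ext (by simp; abel)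
  have hker : Nat.card ψ.ker ≤ Nat.card F0 := by
    have h : ∀ c : ψ.ker, ∃ t : F0, φ t = c.1 := fun c => by
      have h1 : (c.1 : K) + σ (c.1 : K) = 0 := congrArg Subtype.val (c.2 : ψ c.1 = 0)
      have h2 : (σ * σ) (c.1 : K) = c.1 := by
        have h3 := congrArg σ h1
        rw [map_add, map_zero] at h3
        rw [AlgEquiv.mul_apply]
        linear_combination h3 - h1
      obtain ⟨t, ht⟩ := mem_range_of_fixed hr (sq_ne_one hr hodd hσ) h2
      refine ⟨⟨t, ?_⟩, Subtype.ext ht⟩
      show J.σF t = t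
      apply (algebraMap F K).injective
      rw [← J.compat, ht]
      exact (hK0 _).1 c.1.2
    choose t ht using h
    exact Nat.card_le_card_of_injective t fun a b hab => Subtype.ext (by rw [← ht a, ← ht b, hab])
  have hle : Nat.card K0 ≤ Nat.card F0 * Nat.card L := by
    rw [AddSubgroup.card_eq_card_quotient_mul_card_addSubgroup ψ.ker, mul_comm]
    refine Nat.mul_le_mul hker ?_
    rw [Nat.card_congr (QuotientAddGroup.quotientKerEquivRange ψ).toEquiv]
    exact AddSubgroup.card_le_card_addGroup _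
  letI : Algebra L K0 := (Subfield.inclusion hLK).toAlgebra
  have hpow : Nat.card K0 = Nat.card L ^ finrank L K0 := Module.natCard_eq_pow_finrank
  have hone : finrank L K0 = 1 := by
    have hpos : 0 < finrank L K0 := Module.finrank_pos
    by_contra hne
    have h2 : Nat.card L ^ 2 ≤ Nat.card K0 := by
      rw [hpow]; exact Nat.pow_le_pow_right Nat.card_pos (by omega)
    have h5 : Nat.card L ≤ Nat.card F0 := by
      have h6 : Nat.card L * Nat.card L ≤ Nat.card F0 * Nat.card L := by
        rw [← pow_two]; exact h2.trans hle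
      exact Nat.le_of_mul_le_mul_right h6 Nat.card_pos
    have h1 : 1 < Nat.card F0 := Finite.one_lt_card
    have := hcard.trans (hle.trans (Nat.mul_le_mul_left _ h5))
    nlinarith
  refine SetLike.coe_injective (Set.eq_of_subset_of_ncard_le hLK ?_ (Set.toFinite _))
  rw [← Nat.card_coe_set_eq, ← Nat.card_coe_set_eq]
  show Nat.card K0 ≤ Nat.card L
  rw [hpow, hone, pow_one]

/-- Two coordinates are separated. -/
theorem Family.exists_separate [Fintype Gal'] (hr : (finrank F K).Prime) (hodd : Odd (finrank F K))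
    (hU : Family J U) {σ τ : Gal'} (hτ : τ ≠ 1) (hne : τ ≠ σ) (hne' : τ ≠ σ⁻¹) :
    ∃ α ∈ coordRing J U, α τ = 0 ∧ α σ ≠ 0 := by
  by_contra hcon
  push Not at hcon
  have hdet : ∀ α ∈ coordRing J U, ∀ β ∈ coordRing J U, α τ = β τ → α σ = β σ := fun α hα β hβ h =>
    sub_eq_zero.1 (hcon (α - β) (sub_mem hα hβ) (sub_eq_zero.2 h))
  have hlift : ∀ x : {x : K // J.s x = x}, ∃ α ∈ coordRing J U, α τ = x.1 := fun x =>
    hU.eval_surj hr hodd hτ x.2
  choose l hl hlv using hlift
  have key : ∀ c : {x : K // J.s x = x}, (l c σ - c.1) * (l c σ - σ c.1) = 0 := fun c => by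
    let c' : {x : K // J.s x = x} := ⟨τ c.1, by rw [J.s_aut, c.2]⟩
    have e1 : l c σ + l c' σ = c.1 + σ c.1 :=
      hdet _ (add_mem (hl c) (hl c')) _ (hU.sum_mem_coordRing c.2) (by simp [hlv, c'])
    have e2 : l c σ * l c' σ = c.1 * σ c.1 :=
      hdet _ (mul_mem (hl c) (hl c')) _ (hU.prod_mem_coordRing c.2) (by simp [hlv, c'])
    linear_combination l c σ * e1 - e2
  -- the zero set of one factor is everything
  let K0 : AddSubgroup K :=
    { carrier := {x | J.s x = x}
      add_mem' := fun {a b} ha hb => by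
        simp only [Set.mem_setOf_eq] at ha hb ⊢; rw [map_add, ha, hb]
      zero_mem' := map_zero _
      neg_mem' := fun {a} ha => by simp only [Set.mem_setOf_eq] at ha ⊢; rw [map_neg, ha] }
  let θ : K0 →+ K := AddMonoidHom.mk' (fun c => l ⟨c.1, c.2⟩ σ) fun a b =>
    hdet _ (hl _) _ (add_mem (hl _) (hl _)) (by simp [hlv])
  have hall : (∀ c : K0, θ c = c.1) ∨ ∀ c : K0, θ c = σ c.1 := by
    by_contra h
    push Not at h
    obtain ⟨⟨a, ha⟩, b, hb⟩ := h
    have ha' : θ a = σ a.1 := sub_eq_zero.1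
      ((mul_eq_zero.1 (key ⟨a.1, a.2⟩)).resolve_left (sub_ne_zero.2 ha))
    have hb' : θ b = b.1 := sub_eq_zero.1
      ((mul_eq_zero.1 (key ⟨b.1, b.2⟩)).resolve_right (sub_ne_zero.2 hb))
    rcases mul_eq_zero.1 (key ⟨(a + b).1, (a + b).2⟩) with h1 | h1
    · apply ha
      have h2 : θ a + θ b = a.1 + b.1 := by rw [← map_add]; exact sub_eq_zero.1 h1
      linear_combination h2 - hb'
    · apply hb
      have h2 : θ a + θ b = σ (a.1 + b.1) := by rw [← map_add]; exact sub_eq_zero.1 h1
      rw [map_add] at h2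
      linear_combination h2 - ha'
  have hsum : ∀ c : K0, θ c + θ ⟨τ c.1, by show J.s _ = _; rw [J.s_aut, c.2]⟩ = c.1 + σ c.1 :=
    fun c => hdet _ (add_mem (hl _) (hl _)) _ (hU.sum_mem_coordRing c.2) (by simp [hlv])
  rcases hall with h | h
  · refine hne (J.aut_ext fun c hc => ?_)
    have h1 := hsum ⟨c, hc⟩
    rw [h, h] at h1
    exact add_left_cancel h1
  · refine hne' (eq_inv_of_mul_eq_one_right (J.aut_ext fun c hc => ?_))
    have h1 := hsum ⟨c, hc⟩
    rw [h, h, add_comm c, add_right_inj] at h1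
    rw [AlgEquiv.one_apply, AlgEquiv.mul_apply]
    exact h1

/-- A non-zero coordinate gives all symmetrised maps. -/
theorem Family.isolate [Fintype Gal'] [DecidableEq Gal'] (hr : (finrank F K).Prime)
    (hodd : Odd (finrank F K)) (hU : Family J U) {a : Gal' → K} (ha : rep a ∈ U)
    {σ : Gal'} (hσ : σ ≠ 1) (haσ : a σ ≠ 0) (k : K) : J.pr σ k ∈ U := by
  set a0 : Gal' → K := a - Pi.single 1 (a 1) with ha0
  have hsym : ∀ b : Gal' → K, rep b ∈ U → ∀ π, b π = π (J.s (b π⁻¹)) := fun b hb π =>
    congrFun (rep_injective ((hU.sym _ hb).symm.trans (J.hadj_rep b))) π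
  have ha1 : J.s (a 1) = a 1 := by
    have := hsym a ha 1
    rw [inv_one, AlgEquiv.one_apply] at this
    exact this.symm
  have ha0U : rep a0 ∈ U := by
    rw [ha0, rep_sub, rep_single]
    exact U.sub_mem ha (by
      have := hU.mu_mem _ ha1
      convert this using 1
      exact LinearMap.ext fun x => by simp)
  have hσi : σ⁻¹ ≠ σ := fun h => sq_ne_one hr hodd hσ (by
    nth_rewrite 1 [← h]; exact inv_mul_cancel σ)
  have hex : ∀ τ : Gal', ∃ α ∈ coordRing J U,
      (τ ≠ 1 → τ ≠ σ → τ ≠ σ⁻¹ → α τ = 0) ∧ α σ ≠ 0 := fun τ => by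
    by_cases h : τ ≠ 1 ∧ τ ≠ σ ∧ τ ≠ σ⁻¹
    · obtain ⟨α, hα, h1, h2⟩ := hU.exists_separate hr hodd h.1 h.2.1 h.2.2
      exact ⟨α, hα, fun _ _ _ => h1, h2⟩
    · exact ⟨1, one_mem _, fun h1 h2 h3 => absurd ⟨h1, h2, h3⟩ h, one_ne_zero⟩
  choose α hα hα0 hασ using hex
  set e : Gal' → K := ∏ τ, α τ with he
  have heA : e ∈ coordRing J U := prod_mem fun τ _ => hα τ
  have heσ : e σ ≠ 0 := by
    rw [he, Finset.prod_apply]; exact Finset.prod_ne_zero_iff.2 fun τ _ => hασ τ
  have he0 : ∀ τ, τ ≠ 1 → τ ≠ σ → τ ≠ σ⁻¹ → e τ = 0 := fun τ h1 h2 h3 => by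
    rw [he, Finset.prod_apply]
    exact Finset.prod_eq_zero (Finset.mem_univ τ) (hα0 τ h1 h2 h3)
  have hline : ∀ x, J.s x = x → J.pr σ (x * a σ) ∈ U := by
    intro x hx
    have hx' : J.s (x / e σ) = x / e σ := by rw [map_div₀, hx, heA.1 σ]
    obtain ⟨β, hβ, hβσ⟩ := hU.eval_surj hr hodd hσ hx'
    set b : Gal' → K := β * e * a0 with hb
    have hbU : rep b ∈ U := (mul_mem hβ heA).2 a0 ha0U
    have hbσ : b σ = x * a σ := by
      rw [hb, Pi.mul_apply, Pi.mul_apply, hβσ, div_mul_cancel₀ _ heσ, ha0, Pi.sub_apply,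
        Pi.single_eq_of_ne hσ, sub_zero]
    have hb0 : b = Pi.single σ (b σ) + Pi.single σ⁻¹ (σ⁻¹ (J.s (b σ))) := by
      funext π
      rw [Pi.add_apply]
      by_cases h1 : π = σ
      · subst h1
        rw [Pi.single_eq_same, Pi.single_eq_of_ne hσi.symm, add_zero]
      by_cases h2 : π = σ⁻¹
      · subst h2
        rw [Pi.single_eq_of_ne h1, Pi.single_eq_same, zero_add]
        have := hsym b hbU σ⁻¹
        rwa [inv_inv] at this
      rw [Pi.single_eq_of_ne h1, Pi.single_eq_of_ne h2, add_zero, hb, Pi.mul_apply, Pi.mul_apply]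
      by_cases h3 : π = 1
      · subst h3; simp [ha0]
      · rw [he0 π h3 h1 h2, mul_zero, zero_mul]
    rw [Family.pr_eq, ← hbσ, ← hb0]
    exact hbU
  obtain ⟨d, hd, hdU⟩ := hU.rot
  have hrot : ∀ k, J.pr σ k ∈ U → J.pr σ (d * σ (J.s d) * k) ∈ U := by
    intro k hk
    have h := hdU _ hk
    convert h using 1
    refine LinearMap.ext fun y => ?_
    simp [Inv.pr, J.s_aut, J.invol, map_mul]
    ring
  set u := d * σ (J.s d) with hu
  have hu0 : J.s u ≠ u := by
    intro h
    have hd0 : d ≠ 0 := by rintro rfl; exact hd ⟨0, by simp⟩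
    rw [hu, map_mul, J.s_aut, J.invol] at h
    refine hd (mem_range_of_fixed hr hσ ?_)
    have hsd : J.s d ≠ 0 := by simpa using hd0
    have hσsd : σ (J.s d) ≠ 0 := by simpa using hd0
    rw [map_div₀, div_eq_div_iff hσsd hsd]
    linear_combination h
  set z := k / a σ with hz
  have hden : u - J.s u ≠ 0 := sub_ne_zero.2 (Ne.symm hu0)
  set b := (z - J.s z) / (u - J.s u) with hbdef
  have hbr : J.s b = b := by
    rw [hbdef, map_div₀, map_sub, map_sub, J.invol, J.invol,
      show J.s z - z = -(z - J.s z) by ring, show J.s u - u = -(u - J.s u) by ring, neg_div_neg_eq]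
  have hzu : (z - J.s z) = b * (u - J.s u) := by rw [hbdef, div_mul_cancel₀ _ hden]
  have har : J.s (z - b * u) = z - b * u := by
    rw [map_sub, map_mul, hbr]
    linear_combination -hzu
  have h1 := U.add_mem (hline _ har) (hrot _ (hline _ hbr))
  convert h1 using 1
  refine LinearMap.ext fun y => ?_
  have hk : k = (z - b * u) * a σ + u * (b * a σ) := by
    rw [hz]; field_simp; ring
  conv_lhs => rw [hk]
  simp [Inv.pr, map_add, map_mul, add_mul]
  ring

theorem Family.exists_pair [Fintype Gal'] (hr : (finrank F K).Prime) (hodd : Odd (finrank F K))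
    (hU : Family J U) {S : E} (hS : S ∈ U) (hns : ∀ c, S ≠ mu c) :
    ∃ τ : Gal', τ ≠ 1 ∧ ∀ k, J.pr τ k ∈ U := by
  classical
  obtain ⟨a, rfl⟩ := exists_rep S
  obtain ⟨τ, hτ, haτ⟩ : ∃ τ : Gal', τ ≠ 1 ∧ a τ ≠ 0 := by
    by_contra hcon
    push Not at hcon
    refine hns (a 1) (LinearMap.ext fun x => ?_)
    rw [rep_apply, Finset.sum_eq_single (1 : Gal') (fun τ _ h => by rw [hcon τ h, zero_mul])
      (fun h => absurd (Finset.mem_univ _) h)]
    simp
  exact ⟨τ, hτ, hU.isolate hr hodd hS hτ haτ⟩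

theorem Family.piMap_mem [Fintype Gal'] (hr : (finrank F K).Prime) (hodd : Odd (finrank F K))
    (hU : Family J U) {σ : Gal'} (hσ : σ ≠ 1)
    (hall : ∀ i < (finrank F K) / 2, J.pr (σ ^ (i + 1)) 1 ∈ U) : piMap ∈ U := by
  obtain ⟨s, hs⟩ := hodd
  have ho := orderOf_gal hr hσ
  rw [piMap_eq hr hσ, show finrank F K = s + 1 + s by omega, Finset.sum_range_add,
    Finset.sum_range_succ', pow_zero]
  have h1 : ∑ i ∈ Finset.range s, J.pr (σ ^ (i + 1)) 1 ∈ U :=
    AddSubgroup.sum_mem _ fun i hi => hall i (by have := Finset.mem_range.1 hi; omega)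
  have h2 := U.add_mem h1 (hU.mu_mem 1 (map_one _))
  convert h2 using 1
  simp only [Inv.pr, map_one, one_mul, Finset.sum_add_distrib]
  rw [← Finset.sum_range_reflect (fun i => ((σ ^ (i + 1))⁻¹ : Gal').toLinearMap) s,
    show (1 : Gal').toLinearMap = (1 : E) from rfl,
    Finset.sum_congr rfl (g := fun i => ((σ ^ (s - 1 - i + 1))⁻¹ : Gal').toLinearMap)
      (s₁ := Finset.range s) (f := fun i => (σ ^ (s + 1 + i)).toLinearMap) ?_]
  · abel
  intro i hi
  congr 1
  rw [eq_inv_iff_mul_eq_one, ← pow_add]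
  have := Finset.mem_range.1 hi
  rw [show s + 1 + i + (s - 1 - i + 1) = orderOf σ by omega, pow_orderOf_eq_one]

theorem Family.piMap_three [Fintype Gal'] (hr : (finrank F K).Prime) (h3 : finrank F K = 3)
    (hU : Family J U) {S : E} (hS : S ∈ U) (hns : ∀ c, S ≠ mu c) : piMap ∈ U := by
  obtain ⟨τ, hτ, hk⟩ := hU.exists_pair hr (by rw [h3]; decide) hS hns
  refine hU.piMap_mem hr (by rw [h3]; decide) hτ fun i hi => ?_
  rw [h3] at hi
  obtain rfl : i = 0 := by omega
  rw [pow_one]; exact hk 1

/-- **Main algebraic step.** -/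
theorem Family.piMap_of_congr (hr : (finrank F K).Prime) (hodd : Odd (finrank F K))
    (hU : Family J U) (P : K ≃ₗ[F] K)
    (hP : ∀ S ∈ U, P.toLinearMap * S * J.hadj P.toLinearMap ∈ U)
    (hns : ∃ c : K, ∀ d : K, (P.toLinearMap * mu c : E) ≠ mu d * P.toLinearMap) :
    piMap ∈ U := by
  classical
  haveI : FiniteDimensional F K := Module.Finite.of_finite
  haveI : Fintype Gal' := Fintype.ofFinite _
  set p : E := P.toLinearMap with hp
  set p' : E := P.symm.toLinearMap with hp'
  have hp'p : p' * p = 1 := LinearMap.ext fun x => P.symm_apply_apply x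
  have hppa : J.hadj p * J.hadj p' = 1 := by
    rw [← J.hadj_mul, hp'p, ← map_one mu, J.hadj_mu, map_one]
  -- a real non-scalar conjugate
  obtain ⟨c, hc, hcns⟩ : ∃ c, J.s c = c ∧ ∀ d, p * mu c * p' ≠ mu d := by
    by_contra hcon
    push Not at hcon
    obtain ⟨c, hc⟩ := hns
    obtain ⟨a, b, ha, hb, rfl⟩ := J.exists_coords c
    obtain ⟨da, hda⟩ := hcon a ha
    obtain ⟨db, hdb⟩ := hcon b hb
    have hm : ∀ e de, p * mu e * p' = mu de → ∀ x, P (e * x) = de * P x := fun e de h x => by
      simpa [hp, hp'] using LinearMap.congr_fun h (P x)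
    refine hc (da + algebraMap F K J.ω * db) (LinearMap.ext fun x => ?_)
    show P ((a + algebraMap F K J.ω * b) * x) = (da + algebraMap F K J.ω * db) * P x
    rw [add_mul, map_add, hm a da hda x, mul_assoc, ← Algebra.smul_def, map_smul, hm b db hdb x,
      Algebra.smul_def]
    ring
  obtain ⟨a, ha⟩ := exists_rep (p * mu c * p')
  obtain ⟨τ, hτ, haτ⟩ : ∃ τ : Gal', τ ≠ 1 ∧ a τ ≠ 0 := by
    by_contra hcon
    push Not at hcon
    refine hcns (a 1) ?_
    rw [← ha]
    refine LinearMap.ext fun x => ?_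
    rw [rep_apply, Finset.sum_eq_single (1 : Gal') (fun τ _ h => by rw [hcon τ h, zero_mul])
      (fun h => absurd (Finset.mem_univ _) h)]
    simp
  -- multiplier
  have hX : ∀ S ∈ U, rep a * S + J.hadj (rep a * S) ∈ U := fun S hS => by
    obtain ⟨T, hT, rfl⟩ : ∃ T ∈ U, p * T * J.hadj p = S := by
      let f : U → U := fun T => ⟨p * T.1 * J.hadj p, hP _ T.2⟩
      have hinj : Function.Injective f := fun T T' h => Subtype.ext (by
        have h1 := congrArg (fun X : U => p' * (X : E) * J.hadj p') h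
        calc (T : E) = p' * p * T * (J.hadj p * J.hadj p') := by rw [hp'p, hppa]; simp
          _ = p' * (p * T * J.hadj p) * J.hadj p' := by noncomm_ring
          _ = p' * (p * T' * J.hadj p) * J.hadj p' := h1
          _ = p' * p * T' * (J.hadj p * J.hadj p') := by noncomm_ring
          _ = T' := by rw [hp'p, hppa]; simp)
      haveI : Finite E := Finite.of_injective (fun g : E => (g : K → K)) DFunLike.coe_injective
      obtain ⟨T, hT⟩ := Finite.injective_iff_surjective.1 hinj ⟨S, hS⟩
      exact ⟨T, T.2, congrArg Subtype.val hT⟩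
    have h0 := U.sub_mem (U.sub_mem (hU.conj_mem (1 + c) (by simp [hc]) T hT) hT)
      (hU.conj_mem c hc T hT)
    have h1 : mu c * T + T * mu c ∈ U := by
      convert h0 using 1
      rw [map_add, map_one]
      noncomm_ring
    have h := hP _ h1
    convert h using 1
    rw [ha, J.hadj_mul, J.hadj_mul, J.hadj_mul, J.hadj_mul, J.hadj_mul, J.hadj_hadj, hU.sym T hT,
      J.hadj_mu, hc]
    calc p * mu c * p' * (p * T * J.hadj p) +
          p * (T * J.hadj p) * (J.hadj p' * (mu c * J.hadj p))
        = p * mu c * (p' * p) * T * J.hadj p + p * T * (J.hadj p * J.hadj p') * mu c * J.hadj p := by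
          noncomm_ring
      _ = _ := by rw [hp'p, hppa]; noncomm_ring
  -- propagation
  have hcoord : ∀ ρ : Gal', ρ ≠ 1 → ¬ (∀ k, J.pr ρ k ∈ U) → ∀ b, rep b ∈ U → b ρ = 0 :=
    fun ρ hρ hn b hb => by
      by_contra h
      exact hn (hU.isolate hr hodd hb hρ h)
  have hJ : ∀ n : ℕ, τ ^ n = 1 ∨ ∀ k, J.pr (τ ^ n) k ∈ U := by
    intro n
    induction n with
    | zero => left; exact pow_zero τ
    | succ n ih =>
      by_cases hn : τ ^ (n + 1) = 1
      · exact Or.inl hn
      right
      by_contra hnot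
      set σ := τ ^ n with hσdef
      set ρ := τ ^ (n + 1) with hρdef
      have hρσ : ρ * σ⁻¹ = τ := by rw [hρdef, hσdef, pow_succ', mul_inv_cancel_right]
      rcases ih with hσ1 | hσ
      · have hρτ : ρ = τ := by rw [← hρσ, hσ1, inv_one, mul_one]
        obtain ⟨e, he, hem⟩ := J.exists_real_moved hτ
        have key : ∀ e, J.s e = e → a τ * τ e + τ (J.s (a τ⁻¹)) * e = 0 := fun e he => by
          have h := hX _ (hU.mu_mem e he)
          rw [show mu e = mu e * (1 : Gal').toLinearMap from LinearMap.ext fun x => by simp,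
            rep_mul_single, J.hadj_rep, ← rep_add] at h
          have h1 := hcoord ρ hn hnot _ h
          rw [hρτ] at h1
          simp only [Pi.add_apply, inv_one, mul_one, map_mul, J.s_aut, he, ← AlgEquiv.mul_apply,
            mul_inv_cancel, AlgEquiv.one_apply] at h1
          exact h1
        have h1 := key 1 (map_one _)
        rw [map_one, mul_one, mul_one] at h1
        have h2 := key e he
        exact haτ ((mul_eq_zero.1 (show a τ * (τ e - e) = 0 by
          linear_combination h2 - e * h1)).resolve_right (sub_ne_zero.2 hem))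
      · set A := a (ρ * σ) with hA
        set B := ρ (J.s (a (ρ⁻¹ * σ⁻¹))) with hB
        set C := ρ (J.s (a (ρ⁻¹ * σ))) with hC
        have key : ∀ k, a τ * τ k + C * k + (A * ρ (J.s k) + B * σ⁻¹ (J.s k)) = 0 := fun k => by
          have h := hX _ (hσ k)
          rw [Inv.pr, mul_add, rep_mul_single, rep_mul_single, ← rep_add, J.hadj_rep, ← rep_add] at h
          have h1 := hcoord ρ hn hnot _ h
          simp only [Pi.add_apply, inv_inv, map_add, map_mul, J.s_aut, J.invol,
            ← AlgEquiv.mul_apply, mul_assoc ρ, mul_inv_cancel_right, mul_inv_cancel, mul_one, hρσ,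
            show ρ * (ρ⁻¹ * σ⁻¹) = σ⁻¹ from mul_inv_cancel_left ρ σ⁻¹] at h1
          rw [AlgEquiv.one_apply] at h1
          rw [hA, hB, hC]
          linear_combination h1
        have hlin : ∀ k, a τ * τ k + C * k = 0 := fun k => by
          have h1 := key k
          have h2 := key (algebraMap F K J.ω * k)
          simp only [map_mul, J.compat, AlgEquiv.commutes] at h2
          refine (mul_eq_zero.1 (show (algebraMap F K J.ω - J.s (algebraMap F K J.ω)) *
            (a τ * τ k + C * k) = 0 by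
              rw [J.compat]; linear_combination h2 - algebraMap F K (J.σF J.ω) * h1)).resolve_left
            (sub_ne_zero.2 (Ne.symm J.s_omega))
        obtain ⟨e, -, hem⟩ := J.exists_real_moved hτ
        have h1 := hlin 1
        rw [map_one, mul_one, mul_one] at h1
        exact haτ ((mul_eq_zero.1 (show a τ * (τ e - e) = 0 by
          linear_combination hlin e - e * h1)).resolve_right (sub_ne_zero.2 hem))
  refine hU.piMap_mem hr hodd hτ fun i hi => ?_
  refine ((hJ (i + 1)).resolve_left fun h => ?_) 1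
  have := Nat.le_of_dvd (Nat.succ_pos i) (orderOf_dvd_of_pow_eq_one h)
  rw [orderOf_gal hr hτ] at this
  omega

end Cfsg.Agent.Lib.UnitExt
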