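import Cfsg.Agent.Lib.UnitExt.Alg
import Cfsg.Agent.Lib.K41.ExtForm.Stable
import Mathlib.RingTheory.Norm.Transitivity

/-!
A vector space over an extension field of odd degree with a hermitian form, seen over the ground
field through the trace: root elements, moves between singular vectors, line stabilisers.
Owner: helper95.
-/
set_option autoImplicit false
set_option linter.unusedSectionVars false
set_option linter.style.haveILetI false

namespace Cfsg.Agent.Lib.UnitExt

open Module Cfsg.Agent.Lib.ExtFieldMax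
open Cfsg.Agent.Lib.K41.ExtForm (trace_ext piMap piMap_apply)

variable {F K V : Type*} [Field F] [Field K] [Algebra F K] [AddCommGroup V] [Module F V]
  [Module K V] [IsScalarTower F K V] [Finite F] [Finite K] [Finite V]

namespace Inv

variable (J : Inv F K)

theorem σF_invol (t : F) : J.σF (J.σF t) = t :=
  (algebraMap F K).injective (by rw [← J.compat, ← J.compat, J.invol])

/-- A skew scalar. -/
def eF : F := J.ω - J.σF J.ω

/-- The same in `K`. -/
def eps : K := algebraMap F K J.eF

theorem eF_ne : J.eF ≠ 0 := sub_ne_zero.2 (Ne.symm J.move)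

theorem σF_eF : J.σF J.eF = -J.eF := by rw [eF, map_sub, J.σF_invol]; ring

theorem eps_ne : J.eps ≠ 0 := (map_ne_zero _).2 J.eF_ne

theorem s_eps : J.s J.eps = -J.eps := by rw [eps, J.compat, J.σF_eF, map_neg]

theorem trace_s' (x : K) : Algebra.trace F K (J.s x) = J.σF (Algebra.trace F K x) := by
  haveI := Fintype.ofFinite (K ≃ₐ[F] K)
  exact J.trace_s x

theorem exists_trace {h : K} (hh : J.s h = h) : ∃ a, a + J.s a = -h := by
  set w := algebraMap F K J.ω
  have h0 : J.s w - w ≠ 0 := sub_ne_zero.2 J.s_omega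
  refine ⟨h * w / (J.s w - w), ?_⟩
  rw [map_div₀, map_mul, map_sub, hh, J.invol, show w - J.s w = -(J.s w - w) by ring, div_neg,
    ← sub_eq_add_neg, ← sub_div, div_eq_iff h0]
  ring

theorem exists_norm {h : K} (hh : J.s h = h) : ∃ a, a * J.s a = h := by
  obtain ⟨⟨a, ha⟩, ⟨b, hb⟩, hab⟩ := Cfsg.Agent.Lib.Subspaces.UnitaryForm.exists_quad_root
    (⟨-h, by show J.s (-h) = -h; rw [map_neg, hh]⟩ : RingHom.eqLocusField J.s (RingHom.id K))
    1 ⟨-(J.eps * J.eps), by show J.s _ = -(J.eps * J.eps); rw [map_neg, map_mul, J.s_eps]; ring⟩ one_ne_zero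
    (fun e => mul_ne_zero J.eps_ne J.eps_ne (neg_eq_zero.mp (congrArg Subtype.val e)))
  have ha' : J.s a = a := ha
  have hb' : J.s b = b := hb
  have hab' : -h + 1 * a ^ 2 + -(J.eps * J.eps) * b ^ 2 = 0 := congrArg Subtype.val hab
  refine ⟨a + b * J.eps, ?_⟩
  rw [map_add, map_mul, ha', hb', J.s_eps]
  linear_combination hab'

theorem eps_smul (x : V) : J.eF • x = J.eps • x := (algebraMap_smul K J.eF x).symm

end Inv

/-- A hermitian `K`-form, and a group of isometries of its trace containing the `K`-linear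
isometries of determinant one. -/
structure Setting (F K V : Type*) [Field F] [Field K] [Algebra F K] [AddCommGroup V] [Module F V]
    [Module K V] [IsScalarTower F K V] where
  J : Inv F K
  H : V → V → K
  add_left : ∀ x y z, H (x + y) z = H x z + H y z
  smul_left : ∀ (c : K) (x z : V), H (c • x) z = c * H x z
  herm : ∀ x y, H y x = J.s (H x y)
  nondeg : ∀ x, (∀ y, H x y = 0) → x = 0
  M : Subgroup (V ≃ₗ[F] V)
  iso : ∀ g ∈ M, ∀ x y, Algebra.trace F K (H (g x) (g y)) = Algebra.trace F K (H x y)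
  lin_mem : ∀ g : V ≃ₗ[F] V, (∀ (c : K) (x : V), g (c • x) = c • g x) →
    (∀ x y, Algebra.trace F K (H (g x) (g y)) = Algebra.trace F K (H x y)) →
    LinearMap.det (g : V →ₗ[F] V) = 1 → g ∈ M
  prime : (finrank F K).Prime
  odd : Odd (finrank F K)
  dims : 4 ≤ finrank K V ∨ (finrank K V = 2 ∧ ∃ ζ : K,
    J.s ζ * ζ = 1 ∧ Algebra.norm F ζ = 1 ∧ ζ ∉ Set.range (algebraMap F K))

/-- Unipotent elements have determinant one. -/
theorem det_eq_one_of_pow {g : V ≃ₗ[F] V} {p : ℕ} [Fact p.Prime] [CharP F p] (k : ℕ)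
    (h : g ^ p ^ k = 1) : LinearMap.det (g : V →ₗ[F] V) = 1 := by
  have h1 : LinearMap.det ((g : V →ₗ[F] V) ^ p ^ k) = 1 := by
    rw [show (g : V →ₗ[F] V) ^ p ^ k = ((g ^ p ^ k : V ≃ₗ[F] V) : V →ₗ[F] V) from
      (map_pow (LinearEquiv.automorphismGroup.toLinearMapMonoidHom (R := F) (M := V)) g _).symm, h]
    exact LinearMap.det_id
  rw [map_pow] at h1
  exact (iterateFrobenius F p k).injective (by rw [iterateFrobenius_def, h1, map_one])

namespace Setting

variable (S : Setting F K V)

/-- The trace form. -/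
noncomputable def f (x y : V) : F := Algebra.trace F K (S.H x y)

theorem add_right (x y z : V) : S.H x (y + z) = S.H x y + S.H x z := by
  rw [S.herm, S.add_left, map_add, ← S.herm, ← S.herm]

theorem smul_right (c : K) (x z : V) : S.H x (c • z) = S.J.s c * S.H x z := by
  rw [S.herm, S.smul_left, map_mul, ← S.herm]

theorem zero_left (x : V) : S.H 0 x = 0 := by
  rw [← zero_smul K (0 : V), S.smul_left, zero_mul]

theorem zero_right (x : V) : S.H x 0 = 0 := by rw [S.herm, S.zero_left, map_zero]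

theorem sub_left (x y z : V) : S.H (x - y) z = S.H x z - S.H y z := by
  rw [sub_eq_add_neg, ← neg_one_smul K y, S.add_left, S.smul_left]; ring

theorem sub_right (x y z : V) : S.H x (y - z) = S.H x y - S.H x z := by
  rw [S.herm, S.sub_left, map_sub, ← S.herm, ← S.herm]

theorem self_real (x : V) : S.J.s (S.H x x) = S.H x x := (S.herm x x).symm

theorem orth_symm {x y : V} (h : S.H x y = 0) : S.H y x = 0 := by rw [S.herm, h, map_zero]

theorem f_iso {g : V ≃ₗ[F] V} (hg : g ∈ S.M) (x y : V) : S.f (g x) (g y) = S.f x y := S.iso g hg x y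

theorem f_inv {g : V ≃ₗ[F] V} (hg : g ∈ S.M) (x y : V) : S.f (g⁻¹ x) y = S.f x (g y) := by
  rw [← S.f_iso hg, apply_inv_self']

theorem f_swap (x y : V) : S.f y x = S.J.σF (S.f x y) := by rw [f, S.herm, S.J.trace_s']; rfl

theorem eq_zero_of_trace {x y : V} (h : ∀ c : K, S.f (c • x) y = 0) : S.H x y = 0 :=
  trace_ext (F := F) fun c => by
    have := h c
    rwa [f, S.smul_left, ← map_zero (Algebra.trace F K), ← mul_zero c] at this

theorem three_le_r (S : Setting F K V) : 3 ≤ finrank F K := by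
  obtain ⟨k, hk⟩ := S.odd
  have := S.prime.two_le
  omega

theorem two_le (S : Setting F K V) : 2 ≤ finrank K V := by
  rcases S.dims with h | ⟨h, -⟩ <;> omega

theorem nontrivial (S : Setting F K V) : Nontrivial V :=
  Module.nontrivial_of_finrank_pos (R := K) (by have := S.two_le; omega)

theorem exists_partner {e : V} (he : e ≠ 0) : ∃ e', S.H e' e = 1 := by
  obtain ⟨y, hy⟩ : ∃ y, S.H e y ≠ 0 := by
    by_contra h
    push Not at h
    exact he (S.nondeg e h)
  have hy' : S.H y e ≠ 0 := fun h => hy (S.orth_symm h)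
  exact ⟨(S.H y e)⁻¹ • y, by rw [S.smul_left, inv_mul_cancel₀ hy']⟩

theorem exists_sing_partner {e : V} (he : e ≠ 0) (hs : S.H e e = 0) :
    ∃ e', S.H e' e = 1 ∧ S.H e e' = 1 ∧ S.H e' e' = 0 := by
  obtain ⟨y, hy⟩ := S.exists_partner he
  obtain ⟨a, ha⟩ := S.J.exists_trace (S.self_real y)
  have hye : S.H e y = 1 := by rw [S.herm, hy, map_one]
  have h1 : S.H (y + a • e) e = 1 := by rw [S.add_left, S.smul_left, hs, hy]; ring
  refine ⟨y + a • e, h1, by rw [S.herm, h1, map_one], ?_⟩
  rw [S.add_left, S.add_right, S.add_right, S.smul_left, S.smul_left, S.smul_right, S.smul_right, hs,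
    hy, hye]
  linear_combination ha

/-- The orthogonal of a vector. -/
noncomputable def perp (e : V) : Submodule K V where
  carrier := {z | S.H z e = 0}
  add_mem' := fun {a b} (ha : S.H a e = 0) (hb : S.H b e = 0) =>
    show S.H (a + b) e = 0 by rw [S.add_left, ha, hb, add_zero]
  zero_mem' := S.zero_left e
  smul_mem' := fun c z (hz : S.H z e = 0) =>
    show S.H (c • z) e = 0 by rw [S.smul_left, hz, mul_zero]

theorem mem_perp {e z : V} : z ∈ S.perp e ↔ S.H z e = 0 := Iff.rfl

theorem decomp {e e' : V} (h : S.H e' e = 1) (z : V) : z - S.H z e • e' ∈ S.perp e := by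
  rw [mem_perp, S.sub_left, S.smul_left, h]; ring

theorem finrank_perp {e : V} (he : e ≠ 0) : finrank K (S.perp e) + 1 = finrank K V := by
  haveI : FiniteDimensional K V := Module.Finite.of_finite
  let φ : V →ₗ[K] K :=
    { toFun := fun z => S.H z e, map_add' := fun a b => S.add_left a b e,
      map_smul' := fun c z => S.smul_left c z e }
  have hk : S.perp e = LinearMap.ker φ := rfl
  obtain ⟨e', he'⟩ := S.exists_partner he
  have hφ : φ ≠ 0 := fun h => one_ne_zero (he'.symm.trans (LinearMap.congr_fun h e'))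
  rw [hk]
  exact Module.Dual.finrank_ker_add_one_of_ne_zero hφ

/-- A vector orthogonal to the orthogonal of `e` is on its line. -/
theorem eq_smul_of_perp {e e' x : V} (h : S.H e' e = 1)
    (hx : ∀ y ∈ S.perp e, S.f x y = 0) : x = S.H x e' • e := by
  rw [← sub_eq_zero]
  have hω : ∀ y ∈ S.perp e, S.H x y = 0 := fun y hy => S.eq_zero_of_trace fun c => by
    rw [f, S.smul_left, show c * S.H x y = S.H x (S.J.s c • y) by rw [S.smul_right, S.J.invol]]
    exact hx _ (Submodule.smul_mem _ _ hy)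
  refine S.nondeg _ fun z => ?_
  have hz : z = (z - S.H z e • e') + S.H z e • e' := (sub_add_cancel _ _).symm
  have h1 := hω _ (S.decomp h z)
  have h2 : S.H e (z - S.H z e • e') = 0 := S.orth_symm (S.decomp h z)
  have h3 : S.H e e' = 1 := by rw [S.herm, h, map_one]
  rw [hz, S.add_right, S.sub_left, S.sub_left, S.smul_left, S.smul_left, h1, h2, S.smul_right,
    S.smul_right, h3]
  ring

open scoped Classical in
/-- The nilpotent part of a root element. -/
noncomputable def rootLin (e : V) (T : Module.End F K) : V →ₗ[F] V where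
  toFun z := if S.H e e = 0 then (S.J.eps * T (S.H z e)) • e else 0
  map_add' x y := by
    split_ifs
    · rw [S.add_left, map_add, mul_add, add_smul]
    · rw [add_zero]
  map_smul' t x := by
    split_ifs
    · rw [← algebraMap_smul K t x, S.smul_left, ← Algebra.smul_def, map_smul, RingHom.id_apply,
        ← smul_assoc, mul_smul_comm]
    · rw [smul_zero]

open scoped Classical in
/-- The root element `z ↦ z + ε T (H z e) • e` of a singular vector. -/
noncomputable def root (e : V) (T : Module.End F K) : V ≃ₗ[F] V :=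
  unip (S.rootLin e T) fun z => by
    show (if S.H e e = 0 then (S.J.eps * T (S.H (S.rootLin e T z) e)) • e else 0) = 0
    split_ifs with h
    · show (S.J.eps * T (S.H (if S.H e e = 0 then (S.J.eps * T (S.H z e)) • e else 0) e)) • e = 0
      rw [if_pos h, S.smul_left, h, mul_zero, map_zero, mul_zero, zero_smul]
    · rfl

open scoped Classical in
theorem root_apply {e : V} (he : S.H e e = 0) (T : Module.End F K) (z : V) :
    S.root e T z = z + (S.J.eps * T (S.H z e)) • e := by
  show z + (if S.H e e = 0 then (S.J.eps * T (S.H z e)) • e else 0) = _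
  rw [if_pos he]

theorem root_fix {e z : V} (he : S.H e e = 0) (T : Module.End F K) (h : S.H z e = 0) :
    S.root e T z = z := by
  rw [S.root_apply he, h, map_zero, mul_zero, zero_smul, add_zero]

variable {e : V} (he : S.H e e = 0)
include he

theorem root_mul (T T' : Module.End F K) : S.root e T * S.root e T' = S.root e (T + T') :=
  LinearEquiv.ext fun z => by
    show S.root e T (S.root e T' z) = _
    rw [S.root_apply he, S.root_apply he, S.root_apply he, S.add_left, S.smul_left, he, mul_zero,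
      add_zero, LinearMap.add_apply, mul_add, add_smul]
    abel

theorem root_zero : S.root e 0 = 1 := LinearEquiv.ext fun z => by
  rw [S.root_apply he, LinearMap.zero_apply, mul_zero, zero_smul, add_zero]; rfl

theorem root_inv (T : Module.End F K) : (S.root e T)⁻¹ = S.root e (-T) :=
  inv_eq_of_mul_eq_one_right (by rw [S.root_mul he, add_neg_cancel, S.root_zero he])

theorem root_pow (T : Module.End F K) (n : ℕ) : S.root e T ^ n = S.root e (n • T) := by
  induction n with
  | zero => rw [pow_zero, zero_smul, S.root_zero he]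
  | succ n ih => rw [pow_succ, ih, S.root_mul he, succ_nsmul]

theorem root_iso {T : Module.End F K} (hT : S.J.hadj T = T) (z w : V) :
    S.f (S.root e T z) (S.root e T w) = S.f z w := by
  have h := S.J.hadj_spec T (S.H z e) (S.H w e)
  rw [hT] at h
  simp only [f, S.root_apply he, S.add_left, S.add_right, S.smul_left, S.smul_right, he, mul_zero,
    add_zero, map_add, map_mul, S.J.s_eps]
  rw [S.herm w e]
  simp only [Inv.eps, ← Algebra.smul_def, neg_mul, map_neg, map_smul, smul_mul_assoc,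
    smul_eq_mul]
  rw [mul_comm (S.J.s (T (S.H w e))), h]
  ring

theorem root_mu_linear (t c : K) (z : V) :
    S.root e (Algebra.lmul F K t) (c • z) = c • S.root e (Algebra.lmul F K t) z := by
  rw [S.root_apply he, S.root_apply he, smul_add, ← mul_smul, S.smul_left]
  simp [mul_left_comm]

theorem root_det (T : Module.End F K) : LinearMap.det (S.root e T : V →ₗ[F] V) = 1 := by
  obtain ⟨p, hp⟩ := CharP.exists F
  haveI : Fact p.Prime := ⟨CharP.char_is_prime F p⟩
  refine det_eq_one_of_pow (p := p) 1 ?_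
  rw [pow_one, S.root_pow he, ← Nat.cast_smul_eq_nsmul F, CharP.cast_eq_zero, zero_smul,
    S.root_zero he]

theorem root_mu_mem {t : K} (ht : S.J.s t = t) : S.root e (Algebra.lmul F K t) ∈ S.M :=
  S.lin_mem _ (S.root_mu_linear he t)
    (fun z w => S.root_iso he (by rw [S.J.hadj_mu, ht]) z w) (S.root_det he _)

/-- The parameters of the root elements in the group. -/
noncomputable def params : AddSubgroup (Module.End F K) where
  carrier := {T | S.J.hadj T = T ∧ S.root e T ∈ S.M}
  add_mem' := fun {T T'} hT hT' => ⟨by rw [S.J.hadj_add, hT.1, hT'.1], by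
      rw [← S.root_mul he]; exact S.M.mul_mem hT.2 hT'.2⟩
  zero_mem' := ⟨by
      have := S.J.hadj_mu (0 : K); rwa [map_zero, map_zero, map_zero] at this, by
      rw [S.root_zero he]; exact S.M.one_mem⟩
  neg_mem' := fun {T} hT => ⟨by
      have h1 : S.J.hadj (-T) + S.J.hadj T = 0 := by
        rw [← S.J.hadj_add, neg_add_cancel]
        have := S.J.hadj_mu (0 : K); rwa [map_zero, map_zero, map_zero] at this
      rw [hT.1] at h1
      exact eq_neg_of_add_eq_zero_left h1, by
    rw [← S.root_inv he]; exact S.M.inv_mem hT.2⟩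

omit he

theorem root_injective {e : V} (he : S.H e e = 0) (he0 : e ≠ 0) :
    Function.Injective (S.root e) := fun T T' h => by
  obtain ⟨e', he'⟩ := S.exists_partner he0
  refine LinearMap.ext fun a => ?_
  have h1 := LinearEquiv.congr_fun h (a • e')
  rw [S.root_apply he, S.root_apply he, S.smul_left, he', mul_one] at h1
  exact mul_left_cancel₀ S.J.eps_ne (smul_left_injective K he0 (add_left_cancel h1))

/-- An element mapping a line to a line gives a linear map of the field. -/
theorem exists_lineMap {g : V ≃ₗ[F] V} {e e' : V} (he : e ≠ 0) (he' : e' ≠ 0)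
    (h : ∀ c : K, g (c • e) ∈ Submodule.span K {e'}) :
    ∃ P : K ≃ₗ[F] K, ∀ c, g (c • e) = P c • e' := by
  choose d hd using fun c => Submodule.mem_span_singleton.1 (h c)
  let P : K →ₗ[F] K :=
    { toFun := d
      map_add' := fun a b => smul_left_injective K he' (by
        show d (a + b) • e' = (d a + d b) • e'
        rw [add_smul, hd, hd, hd, add_smul, map_add])
      map_smul' := fun t a => smul_left_injective K he' (by
        show d (t • a) • e' = (t • d a) • e'
        rw [smul_assoc, hd, hd, smul_assoc, map_smul]) }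
  have hinj : Function.Injective P := fun a b hab => by
    have : g (a • e) = g (b • e) := by rw [← hd, ← hd]; exact congrArg (· • e') hab
    exact smul_left_injective K he (g.injective this)
  exact ⟨LinearEquiv.ofBijective P ⟨hinj, Finite.injective_iff_surjective.1 hinj⟩,
    fun c => (hd c).symm⟩

theorem H_inv {g : V ≃ₗ[F] V} (hg : g ∈ S.M) {e e' : V} {P : K ≃ₗ[F] K}
    (hP : ∀ c, g (c • e) = P c • e') (z : V) :
    S.H (g⁻¹ z) e = S.J.hadj P.toLinearMap (S.H z e') := by
  apply S.J.s.injective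
  refine trace_ext (F := F) fun c => ?_
  rw [← S.J.hadj_spec, ← S.herm, ← S.herm, ← S.smul_left, ← S.smul_left]
  show S.f (c • e) (g⁻¹ z) = S.f (P c • e') z
  rw [← hP, ← S.f_iso hg, apply_inv_self']

theorem conj_root {g : V ≃ₗ[F] V} (hg : g ∈ S.M) {e e' : V} (he : S.H e e = 0)
    (he' : S.H e' e' = 0) {P : K ≃ₗ[F] K} (hP : ∀ c, g (c • e) = P c • e') (T : Module.End F K) :
    g * S.root e T * g⁻¹ = S.root e' (P.toLinearMap * T * S.J.hadj P.toLinearMap) :=
  LinearEquiv.ext fun z => by
    show g (S.root e T (g⁻¹ z)) = _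
    rw [S.root_apply he, map_add, apply_inv_self', hP, S.H_inv hg hP, S.root_apply he', Inv.eps,
      ← Algebra.smul_def, map_smul, ← Algebra.smul_def]
    rfl

theorem params_conj {g : V ≃ₗ[F] V} (hg : g ∈ S.M) {e e' : V} (he : S.H e e = 0)
    (he' : S.H e' e' = 0) {P : K ≃ₗ[F] K} (hP : ∀ c, g (c • e) = P c • e') {T : Module.End F K}
    (hT : T ∈ S.params he) : P.toLinearMap * T * S.J.hadj P.toLinearMap ∈ S.params he' := by
  refine ⟨?_, ?_⟩
  · rw [S.J.hadj_mul, S.J.hadj_mul, S.J.hadj_hadj, hT.1, mul_assoc]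
  · rw [← S.conj_root hg he he' hP]
    exact S.M.mul_mem (S.M.mul_mem hg hT.2) (S.M.inv_mem hg)

/-- A `K`-linear element between singular vectors whose product is skew. -/
theorem move_step {x y : V} (hx : S.H x x = 0) (hy : S.H y y = 0)
    (hxy : S.H x y + S.J.s (S.H x y) = 0) (hne : S.H x y ≠ 0) :
    ∃ g ∈ S.M, (∀ (c : K) (z : V), g (c • z) = c • g z) ∧ g x = y := by
  have hc : S.H (y - x) (y - x) = 0 := by
    rw [S.sub_left, S.sub_right, S.sub_right, hx, hy, S.herm x y]
    linear_combination -hxy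
  set t := (S.J.eps * S.H x y)⁻¹ with htdef
  have hsd : S.J.s (S.H x y) = - S.H x y := by linear_combination hxy
  have ht : S.J.s t = t := by
    rw [htdef, map_inv₀, map_mul, S.J.s_eps, hsd, neg_mul_neg]
  refine ⟨S.root (y - x) (Algebra.lmul F K t), S.root_mu_mem hc ht, S.root_mu_linear hc t, ?_⟩
  rw [S.root_apply hc, S.sub_right, hx, sub_zero]
  show x + (S.J.eps * (t * S.H x y)) • (y - x) = y
  rw [show S.J.eps * (t * S.H x y) = 1 by
    rw [htdef]; field_simp [S.J.eps_ne], one_smul, add_sub_cancel]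

/-- Transitivity on singular lines. -/
theorem exists_move {x y : V} (hx0 : x ≠ 0) (hy0 : y ≠ 0) (hx : S.H x x = 0) (hy : S.H y y = 0) :
    ∃ g ∈ S.M, (∀ (c : K) (z : V), g (c • z) = c • g z) ∧ ∃ μ : K, μ ≠ 0 ∧ g x = μ • y := by
  have step : ∀ x y : V, S.H x x = 0 → S.H y y = 0 → S.H x y ≠ 0 →
      ∃ g ∈ S.M, (∀ (c : K) (z : V), g (c • z) = c • g z) ∧ ∃ μ : K, μ ≠ 0 ∧ g x = μ • y := by
    intro x y hx hy hxy
    set μ := S.J.s (S.J.eps / S.H x y) with hμ
    have h1 : S.H x (μ • y) = S.J.eps := by rw [S.smul_right, hμ, S.J.invol, div_mul_cancel₀ _ hxy]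
    obtain ⟨g, hg, hgl, hgx⟩ := S.move_step (y := μ • y) hx (by
      rw [S.smul_left, S.smul_right, hy]; ring) (by rw [h1, S.J.s_eps]; ring)
      (by rw [h1]; exact S.J.eps_ne)
    exact ⟨g, hg, hgl, μ, by
      rw [hμ]; exact (map_ne_zero _).2 (div_ne_zero S.J.eps_ne hxy), hgx⟩
  have comb : ∀ x z y : V, (∃ g ∈ S.M, (∀ (c : K) (u : V), g (c • u) = c • g u) ∧
      ∃ μ : K, μ ≠ 0 ∧ g x = μ • z) → (∃ g ∈ S.M, (∀ (c : K) (u : V), g (c • u) = c • g u) ∧
      ∃ μ : K, μ ≠ 0 ∧ g z = μ • y) → ∃ g ∈ S.M, (∀ (c : K) (u : V), g (c • u) = c • g u) ∧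
      ∃ μ : K, μ ≠ 0 ∧ g x = μ • y := by
    rintro x z y ⟨g, hg, hgl, μ, hμ, hgx⟩ ⟨k, hk, hkl, ν, hν, hkz⟩
    exact ⟨k * g, S.M.mul_mem hk hg,
      fun c u => by show k (g (c • u)) = c • k (g u); rw [hgl, hkl],
      μ * ν, mul_ne_zero hμ hν, by show k (g x) = _; rw [hgx, hkl, hkz, mul_smul]⟩
  by_cases hxy : S.H x y = 0
  swap
  · exact step x y hx hy hxy
  obtain ⟨x', hx'1, hx'2, hx'3⟩ := S.exists_sing_partner hx0 hx
  by_cases h1 : S.H x' y = 0
  swap
  · exact comb x x' y (step x x' hx hx'3 (by rw [hx'2]; exact one_ne_zero)) (step x' y hx'3 hy h1)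
  obtain ⟨y', hy'1, hy'2, hy'3⟩ := S.exists_sing_partner hy0 hy
  obtain ⟨l, hl⟩ : ∃ l : K, S.H x' y' + l ≠ 0 := ⟨1 - S.H x' y', by simp⟩
  set z := x' + l • y with hz
  have hzz : S.H z z = 0 := by
    rw [hz, S.add_left, S.add_right, S.add_right, S.smul_left, S.smul_left, S.smul_right,
      S.smul_right, hx'3, hy, h1, S.orth_symm h1]
    ring
  refine comb x z y (step x z hx hzz ?_) (comb z y' y (step z y' hzz hy'3 ?_)
    (step y' y hy'3 hy (by rw [hy'1]; exact one_ne_zero)))
  · rw [hz, S.add_right, S.smul_right, hx'2, hxy, mul_zero, add_zero]; exact one_ne_zero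
  · rw [hz, S.add_left, S.smul_left, hy'2, mul_one]; exact hl

/-- Real multiples are reached. -/
theorem exists_scale_real {e : V} (he0 : e ≠ 0) (he : S.H e e = 0) {c : K} (hc : S.J.s c = c)
    (hc0 : c ≠ 0) : ∃ g ∈ S.M, (∀ (d : K) (z : V), g (d • z) = d • g z) ∧ g e = c • e := by
  obtain ⟨e', h1, h2, h3⟩ := S.exists_sing_partner he0 he
  have hz : S.H (S.J.eps • e') (S.J.eps • e') = 0 := by rw [S.smul_left, S.smul_right, h3]; ring
  obtain ⟨g, hg, hgl, hge⟩ := S.move_step (x := e) (y := S.J.eps • e') he hz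
    (by rw [S.smul_right, h2, mul_one, S.J.invol, S.J.s_eps]; ring)
    (by rw [S.smul_right, h2, mul_one]; exact (map_ne_zero _).2 S.J.eps_ne)
  have hk : S.H (S.J.eps • e') (c • e) = S.J.eps * c := by
    rw [S.smul_left, S.smul_right, h1, hc, mul_one]
  obtain ⟨k, hk', hkl, hkz⟩ := S.move_step (x := S.J.eps • e') (y := c • e) hz
    (by rw [S.smul_left, S.smul_right, he]; ring)
    (by rw [hk, map_mul, S.J.s_eps, hc]; ring)
    (by rw [hk]; exact mul_ne_zero S.J.eps_ne hc0)
  exact ⟨k * g, S.M.mul_mem hk' hg,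
    fun d z => by show k (g (d • z)) = d • k (g z); rw [hgl, hkl],
    by show k (g e) = c • e; rw [hge, hkz]⟩

theorem exists_nonsing {e e' : V} (hm : 3 ≤ finrank K V) (h1 : S.H e' e = 1) (h2 : S.H e e' = 1)
    (he : S.H e e = 0) (he' : S.H e' e' = 0) :
    ∃ u, S.H u e = 0 ∧ S.H u e' = 0 ∧ S.H u u ≠ 0 := by
  haveI : FiniteDimensional K V := Module.Finite.of_finite
  by_contra hcon
  push Not at hcon
  have horth : ∀ a b : V, S.H a e = 0 → S.H a e' = 0 → S.H b e = 0 → S.H b e' = 0 → S.H a b = 0 := by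
    intro a b ha ha' hb hb'
    have key : ∀ c : K, S.J.s c * S.H a b + c * S.J.s (S.H a b) = 0 := fun c => by
      have h := hcon (a + c • b) (by rw [S.add_left, S.smul_left, ha, hb]; ring)
        (by rw [S.add_left, S.smul_left, ha', hb']; ring)
      rw [S.add_left, S.add_right, S.add_right, S.smul_left, S.smul_left, S.smul_right, S.smul_right,
        hcon a ha ha', hcon b hb hb', S.herm a b] at h
      linear_combination h
    have k1 := key 1
    rw [map_one, one_mul, one_mul] at k1
    have k2 := key (algebraMap F K S.J.ω)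
    have k3 : (S.J.s (algebraMap F K S.J.ω) - algebraMap F K S.J.ω) * S.H a b = 0 := by
      linear_combination k2 - algebraMap F K S.J.ω * k1
    exact (mul_eq_zero.1 k3).resolve_left (sub_ne_zero.2 S.J.s_omega)
  have hle : (S.perp e ⊓ S.perp e' : Submodule K V) = ⊥ := by
    refine (Submodule.eq_bot_iff _).2 fun a ha => S.nondeg a fun z => ?_
    set w := z - S.H z e • e' - S.H z e' • e with hw
    have hwe : S.H w e = 0 := by
      rw [hw, S.sub_left, S.sub_left, S.smul_left, S.smul_left, h1, he]; ring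
    have hwe' : S.H w e' = 0 := by
      rw [hw, S.sub_left, S.sub_left, S.smul_left, S.smul_left, h2, he']; ring
    have hz : z = w + S.H z e • e' + S.H z e' • e := by rw [hw]; abel
    rw [hz, S.add_right, S.add_right, S.smul_right, S.smul_right, horth a w ha.1 ha.2 hwe hwe',
      S.mem_perp.1 ha.1, S.mem_perp.1 ha.2]
    ring
  have h3 := Submodule.finrank_sup_add_finrank_inf_eq (S.perp e) (S.perp e')
  rw [hle, finrank_bot] at h3
  have he0 : e ≠ 0 := fun h => by rw [h, S.zero_right] at h1; exact zero_ne_one h1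
  have he'0 : e' ≠ 0 := fun h => by rw [h, S.zero_left] at h1; exact zero_ne_one h1
  have := S.finrank_perp he0
  have := S.finrank_perp he'0
  have := Submodule.finrank_le (S.perp e ⊔ S.perp e')
  omega

/-- All multiples are reached in dimension at least three. -/
theorem exists_scale {e : V} (hm : 3 ≤ finrank K V) (he0 : e ≠ 0) (he : S.H e e = 0) {l : K}
    (hl : l ≠ 0) : ∃ g ∈ S.M, (∀ (d : K) (z : V), g (d • z) = d • g z) ∧ g e = l • e := by
  obtain ⟨e', h1, h2, h3⟩ := S.exists_sing_partner he0 he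
  obtain ⟨u0, hu0e, hu0e', hu0⟩ := S.exists_nonsing hm h1 h2 he h3
  set c := S.J.eps / S.J.s l with hc
  obtain ⟨a, ha⟩ := S.J.exists_norm (h := -(c + S.J.s c) / S.H u0 u0) (by
    rw [map_div₀, map_neg, map_add, S.J.invol, S.self_real, add_comm])
  set z1 := S.J.eps • e' with hz1
  set z2 := e + c • e' + a • u0 with hz2
  have hau : a * (S.J.s a * S.H u0 u0) = -(c + S.J.s c) := by
    rw [← mul_assoc, ha, div_mul_cancel₀ _ hu0]
  have hz11 : S.H z1 z1 = 0 := by rw [hz1, S.smul_left, S.smul_right, h3]; ring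
  have hz22 : S.H z2 z2 = 0 := by
    simp only [hz2, S.add_left, S.add_right, S.smul_left, S.smul_right, he, h3, h1, h2,
      hu0e, hu0e', S.orth_symm hu0e, S.orth_symm hu0e']
    linear_combination hau
  have e1 : S.H e z1 = -S.J.eps := by rw [hz1, S.smul_right, h2, S.J.s_eps, mul_one]
  have e2 : S.H z1 z2 = S.J.eps := by
    simp only [hz1, hz2, S.add_right, S.smul_left, S.smul_right, h1, h3, S.orth_symm hu0e']
    ring
  have e3 : S.H z2 (l • e) = S.J.eps := by
    have hsl : S.J.s l ≠ 0 := (map_ne_zero _).2 hl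
    simp only [hz2, S.add_left, S.smul_left, S.smul_right, he, h1, hu0e]
    rw [hc]; field_simp; ring
  obtain ⟨g1, hg1, hgl1, hge1⟩ := S.move_step he hz11 (by rw [e1, map_neg, S.J.s_eps]; ring)
    (by rw [e1]; exact neg_ne_zero.2 S.J.eps_ne)
  obtain ⟨g2, hg2, hgl2, hge2⟩ := S.move_step hz11 hz22 (by rw [e2, S.J.s_eps]; ring)
    (by rw [e2]; exact S.J.eps_ne)
  obtain ⟨g3, hg3, hgl3, hge3⟩ := S.move_step (y := l • e) hz22
    (by rw [S.smul_left, S.smul_right, he]; ring) (by rw [e3, S.J.s_eps]; ring)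
    (by rw [e3]; exact S.J.eps_ne)
  exact ⟨g3 * g2 * g1, S.M.mul_mem (S.M.mul_mem hg3 hg2) hg1,
    fun d z => by show g3 (g2 (g1 (d • z))) = d • g3 (g2 (g1 z)); rw [hgl1, hgl2, hgl3],
    by show g3 (g2 (g1 e)) = l • e; rw [hge1, hge2, hge3]⟩

theorem exists_real_not_range (S : Setting F K V) :
    ∃ c, S.J.s c = c ∧ c ∉ Set.range (algebraMap F K) := by
  by_contra h
  push Not at h
  obtain ⟨c, hc⟩ := Cfsg.Agent.Lib.K41.ExtForm.exists_not_range (F := F) (K := K) S.prime
  obtain ⟨a, b, ha, hb, rfl⟩ := S.J.exists_coords c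
  obtain ⟨ta, hta⟩ := h a ha
  obtain ⟨tb, htb⟩ := h b hb
  exact hc ⟨ta + S.J.ω * tb, by rw [map_add, map_mul, hta, htb]⟩

theorem params_family {e : V} (he0 : e ≠ 0) (he : S.H e e = 0) : Family S.J (S.params he) := by
  have hconj : ∀ (g : V ≃ₗ[F] V), g ∈ S.M → (∀ (d : K) (z : V), g (d • z) = d • g z) →
      ∀ c : K, c ≠ 0 → g e = c • e → ∀ T ∈ S.params he,
      Algebra.lmul F K c * T * Algebra.lmul F K (S.J.s c) ∈ S.params he := by
    intro g hg hgl c hc hge T hT
    let P : K ≃ₗ[F] K :=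
      { toFun := fun a => c * a
        map_add' := mul_add c
        map_smul' := fun t a => mul_smul_comm t c a
        invFun := fun a => c⁻¹ * a
        left_inv := fun a => inv_mul_cancel_left₀ hc a
        right_inv := fun a => mul_inv_cancel_left₀ hc a }
    have hP : (P.toLinearMap : Module.End F K) = Algebra.lmul F K c := rfl
    have h := S.params_conj hg he he (P := P)
      (fun a => by rw [hgl, hge, ← mul_smul, mul_comm]; rfl) hT
    rwa [hP, S.J.hadj_mu] at h
  refine ⟨fun c hc => ⟨by rw [S.J.hadj_mu, hc], S.root_mu_mem he hc⟩, fun c hc T hT => ?_,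
    fun T hT => hT.1, ?_⟩
  · by_cases hc0 : c = 0
    · subst hc0; rw [map_zero, zero_mul, zero_mul]; exact (S.params he).zero_mem
    obtain ⟨g, hg, hgl, hge⟩ := S.exists_scale_real he0 he hc hc0
    have h := hconj g hg hgl c hc0 hge T hT
    rwa [hc] at h
  rcases S.dims with hm | ⟨hm, ζ, hζ, hN, hζF⟩
  · obtain ⟨c, hc, hcF⟩ := S.exists_real_not_range
    set w := algebraMap F K S.J.ω
    set d := c + w with hd
    have hd0 : d ≠ 0 := fun h => hcF ⟨-S.J.ω, by rw [map_neg]; linear_combination -h⟩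
    refine ⟨d, ?_, fun T hT => ?_⟩
    · rintro ⟨t, ht⟩
      rw [eq_div_iff ((map_ne_zero _).2 hd0), hd, map_add, hc, S.J.compat] at ht
      by_cases ht1 : t = 1
      · subst ht1
        rw [map_one] at ht
        exact S.J.move ((algebraMap F K).injective (by linear_combination ht))
      refine hcF ⟨(t * S.J.σF S.J.ω - S.J.ω) / (1 - t), ?_⟩
      rw [map_div₀, div_eq_iff ((map_ne_zero _).2 (sub_ne_zero.2 (Ne.symm ht1))), map_sub, map_sub,
        map_mul, map_one]
      linear_combination ht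
    · obtain ⟨g, hg, hgl, hge⟩ := S.exists_scale (by omega) he0 he hd0
      exact hconj g hg hgl d hd0 hge T hT
  · have hζ0 : ζ ≠ 0 := right_ne_zero_of_mul (ne_of_eq_of_ne hζ one_ne_zero)
    refine ⟨ζ, ?_, fun T hT => ?_⟩
    · rw [show ζ / S.J.s ζ = ζ ^ 2 by
        rw [div_eq_iff ((map_ne_zero _).2 hζ0)]; linear_combination -ζ * hζ]
      intro hsq
      obtain ⟨t, ht⟩ := hsq
      haveI : FiniteDimensional F K := Module.Finite.of_finite
      haveI : Fintype (K ≃ₐ[F] K) := Fintype.ofFinite _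
      haveI : Fact (finrank F K).Prime := ⟨S.prime⟩
      haveI : Nontrivial (K ≃ₐ[F] K) := by
        rw [← Finite.one_lt_card_iff_nontrivial, IsGalois.card_aut_eq_finrank]
        exact S.prime.one_lt
      obtain ⟨τ, hτ⟩ := exists_ne (1 : K ≃ₐ[F] K)
      have h1 : (τ ζ) ^ 2 = ζ ^ 2 := by rw [← map_pow, ← ht, AlgEquiv.commutes]
      rcases sq_eq_sq_iff_eq_or_eq_neg.1 h1 with h | h
      · exact hζF (Cfsg.Agent.Lib.K41.ExtForm.mem_range_of_fixed S.prime hτ h)
      · refine hζF (Cfsg.Agent.Lib.K41.ExtForm.mem_range_of_fixed S.prime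
          (sq_ne_one S.prime S.odd hτ) ?_)
        rw [AlgEquiv.mul_apply, h, map_neg, h, neg_neg]
    · let g : V ≃ₗ[F] V := (LinearEquiv.smulOfUnit (Units.mk0 ζ hζ0) : V ≃ₗ[K] V).restrictScalars F
      have hgz : ∀ z, g z = ζ • z := fun z => rfl
      refine hconj g (S.lin_mem g (fun d z => by rw [hgz, hgz, smul_comm]) (fun x y => ?_) ?_)
        (fun d z => by rw [hgz, hgz, smul_comm]) ζ hζ0 (hgz e) T hT
      · rw [hgz, hgz, S.smul_left, S.smul_right, ← mul_assoc, mul_comm ζ, hζ, one_mul]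
      · haveI : FiniteDimensional K V := Module.Finite.of_finite
        rw [show (g : V →ₗ[F] V) = (ζ • LinearMap.id : V →ₗ[K] V).restrictScalars F from
          LinearMap.ext fun z => hgz z, LinearMap.det_restrictScalars, LinearMap.det_smul,
          LinearMap.det_id, mul_one, map_pow, hN, one_pow]

/-- An element fixing the orthogonal of `e` is a root element. -/
theorem exists_root_of_fix {g : V ≃ₗ[F] V} (hg : g ∈ S.M) {e : V} (he0 : e ≠ 0)
    (he : S.H e e = 0) (hfix : ∀ y ∈ S.perp e, g y = y) :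
    ∃ T ∈ S.params he, g = S.root e T := by
  obtain ⟨e', h1, h2, h3⟩ := S.exists_sing_partner he0 he
  have hline : ∀ z, g z - z = S.H (g z - z) e' • e := fun z => S.eq_smul_of_perp h1 fun y hy => by
    rw [f, S.sub_left, map_sub]
    show S.f (g z) y - S.f z y = 0
    have h := S.f_iso hg z y
    rw [hfix y hy] at h
    rw [h, sub_self]
  let T : Module.End F K :=
    { toFun := fun a => S.J.eps⁻¹ * S.H (g (a • e') - a • e') e'
      map_add' := fun a b => by
        rw [add_smul, map_add, add_sub_add_comm, S.add_left, mul_add]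
      map_smul' := fun t a => by
        rw [smul_assoc, map_smul, ← smul_sub, ← algebraMap_smul K t, S.smul_left,
          RingHom.id_apply, Algebra.smul_def, mul_left_comm] }
  have hgT : g = S.root e T := LinearEquiv.ext fun z => by
    have h4 := hfix _ (S.decomp h1 z)
    rw [map_sub, sub_eq_sub_iff_sub_eq_sub] at h4
    rw [S.root_apply he, ← sub_eq_iff_eq_add']
    show g z - z = (S.J.eps * (S.J.eps⁻¹ * _)) • e
    rw [mul_inv_cancel_left₀ S.J.eps_ne, ← h4]
    exact hline _
  refine ⟨T, ⟨S.J.hadj_eq fun a b => ?_, hgT ▸ hg⟩, hgT⟩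
  have h := S.f_iso hg (a • e') (b • e')
  rw [hgT, S.root_apply he, S.root_apply he] at h
  simp only [f, S.add_left, S.add_right, S.smul_left, S.smul_right, he, h1, h2, h3, mul_zero,
    add_zero, zero_add, mul_one, map_add, map_zero] at h
  simp only [map_mul, S.J.s_eps] at h
  simp only [Inv.eps, ← Algebra.smul_def, neg_mul, map_neg, map_smul,
    smul_mul_assoc, mul_neg, mul_smul_comm] at h
  simp only [smul_eq_mul] at h
  exact mul_left_cancel₀ S.J.eF_ne (by linear_combination h)

/-- A group of elements, whose stabilisers of the line of `e` fix its orthogonal, consists of root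
elements. -/
theorem stable_contra {e : V} (he0 : e ≠ 0) (he : S.H e e = 0) (G : Subgroup (V ≃ₗ[F] V))
    (hGM : G ≤ S.M)
    (hroot : ∀ g : V ≃ₗ[F] V, (∃ T ∈ S.params he, g = S.root e T) → g ∈ G)
    (hstab : ∀ g ∈ G, (∀ c : K, g (c • e) ∈ Submodule.span K {e}) → ∀ y ∈ S.perp e, g y = y)
    {k : V ≃ₗ[F] V} (hk : k ∈ G) (hkQ : ∃ y ∈ S.perp e, k y ≠ y) : False := by
  haveI : Finite (V ≃ₗ[F] V) :=
    Finite.of_injective (fun g : V ≃ₗ[F] V => (g : V → V)) DFunLike.coe_injective
  obtain ⟨p, hp'⟩ := CharP.exists F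
  have hp : p.Prime := CharP.char_is_prime F p
  haveI : Fact p.Prime := ⟨hp⟩
  have hp0 : (p : F) = 0 := CharP.cast_eq_zero F p
  let R0 : Subgroup (V ≃ₗ[F] V) :=
    { carrier := {g | ∃ T ∈ S.params he, g = S.root e T}
      mul_mem' := by
        rintro _ _ ⟨T, hT, rfl⟩ ⟨T', hT', rfl⟩
        exact ⟨T + T', add_mem hT hT', S.root_mul he T T'⟩
      one_mem' := ⟨0, zero_mem _, (S.root_zero he).symm⟩
      inv_mem' := by
        rintro _ ⟨T, hT, rfl⟩
        exact ⟨-T, neg_mem hT, S.root_inv he T⟩ }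
  let R00 : Subgroup (V ≃ₗ[F] V) :=
    { carrier := {g | ∃ t : K, S.J.s t = t ∧ g = S.root e (Algebra.lmul F K t)}
      mul_mem' := by
        rintro _ _ ⟨T, hT, rfl⟩ ⟨T', hT', rfl⟩
        exact ⟨T + T', by rw [map_add, hT, hT'], by rw [S.root_mul he, map_add]⟩
      one_mem' := ⟨0, map_zero _, by rw [map_zero, S.root_zero he]⟩
      inv_mem' := by
        rintro _ ⟨T, hT, rfl⟩
        exact ⟨-T, by rw [map_neg, hT], by rw [S.root_inv he, map_neg]⟩ }
  set Q := R0.subgroupOf G with hQ
  set Q0 := R00.subgroupOf G with hQ0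
  have hle : Q0 ≤ Q := by
    intro g hg
    obtain ⟨t, ht, h⟩ := Subgroup.mem_subgroupOf.1 hg
    exact Subgroup.mem_subgroupOf.2 ⟨_, ⟨by rw [S.J.hadj_mu, ht], S.root_mu_mem he ht⟩, h⟩
  have hpow : ∀ x : G, x ∈ Q → x ^ p = 1 := fun x hx => by
    obtain ⟨T, -, h⟩ := Subgroup.mem_subgroupOf.1 hx
    refine Subtype.ext ?_
    rw [SubmonoidClass.coe_pow, h, S.root_pow he, ← Nat.cast_smul_eq_nsmul F, hp0, zero_smul,
      S.root_zero he]
    rfl
  have hQp : IsPGroup p Q := fun x => ⟨1, Subtype.ext (by simpa using hpow x.1 x.2)⟩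
  have hcomm : IsMulCommutative Q := ⟨⟨fun a b => by
    obtain ⟨T, -, h⟩ := Subgroup.mem_subgroupOf.1 a.2
    obtain ⟨T', -, h'⟩ := Subgroup.mem_subgroupOf.1 b.2
    apply Subtype.ext
    apply Subtype.ext
    show (a.1.1 * b.1.1 : V ≃ₗ[F] V) = b.1.1 * a.1.1
    rw [h, h', S.root_mul he, S.root_mul he, add_comm]⟩⟩
  have hnc : ¬ IsCyclic Q0 := by
    intro hc
    obtain ⟨gen, hgen⟩ := IsCyclic.exists_generator (α := Q0)
    have h1 : Nat.card Q0 ≤ p := by
      rw [← orderOf_eq_card_of_forall_mem_zpowers hgen]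
      exact Nat.le_of_dvd hp.pos (orderOf_dvd_of_pow_eq_one (Subtype.ext (by
        simpa using hpow gen.1 (hle gen.2))))
    have hmem : ∀ t : {t : K // S.J.s t = t}, S.root e (Algebra.lmul F K t.1) ∈ G := fun t =>
      hroot _ ⟨_, ⟨by rw [S.J.hadj_mu, t.2], S.root_mu_mem he t.2⟩, rfl⟩
    have h2 : Nat.card {t : K // S.J.s t = t} ≤ Nat.card Q0 := by
      refine Nat.card_le_card_of_injective
        (fun t => (⟨⟨S.root e (Algebra.lmul F K t.1), hmem t⟩,
          Subgroup.mem_subgroupOf.2 ⟨t.1, t.2, rfl⟩⟩ : Q0)) fun a b hab => ?_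
      have h := S.root_injective he he0 (congrArg (fun z : Q0 => (z : G).1) hab)
      exact Subtype.ext (by simpa using LinearMap.congr_fun h 1)
    have h3 : Nat.card K ≤ Nat.card {t : K // S.J.s t = t} ^ 2 := by
      rw [pow_two, ← Nat.card_prod]
      refine Nat.card_le_card_of_surjective
        (fun x : {t : K // S.J.s t = t} × {t : K // S.J.s t = t} =>
          x.1.1 + algebraMap F K S.J.ω * x.2.1) fun y => ?_
      obtain ⟨a, b, ha, hb, rfl⟩ := S.J.exists_coords y
      exact ⟨(⟨a, ha⟩, ⟨b, hb⟩), rfl⟩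
    have h4 : p ≤ Nat.card F := by
      refine Nat.le_of_dvd Nat.card_pos ?_
      haveI := Fintype.ofFinite F
      obtain ⟨n, -, hn⟩ := FiniteField.card F p
      rw [Nat.card_eq_fintype_card, hn]
      exact dvd_pow_self _ n.pos.ne'
    have h5 : p ^ 3 ≤ Nat.card K := by
      rw [Module.natCard_eq_pow_finrank (K := F) (V := K)]
      exact (Nat.pow_le_pow_left h4 3).trans
        (Nat.pow_le_pow_right (Finite.one_lt_card (α := F)).le S.three_le_r)
    have h6 : p ^ 3 ≤ p ^ 2 := h5.trans (h3.trans (Nat.pow_le_pow_left (h2.trans h1) 2))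
    exact absurd ((Nat.pow_le_pow_iff_right hp.one_lt).1 h6) (by norm_num)
  have htop := Cfsg.Agent.Lib.K41.ExtForm.eq_top_of_stable hQp hcomm hle hnc
      fun g q hq hq1 hgq => by
    obtain ⟨t, hts, h⟩ := Subgroup.mem_subgroupOf.1 hq
    obtain ⟨T', -, h'⟩ := Subgroup.mem_subgroupOf.1 hgq
    have ht : t ≠ 0 := by
      rintro rfl
      refine hq1 (Subtype.ext ?_)
      rw [h]
      show S.root e (Algebra.lmul F K 0) = 1
      rw [map_zero, S.root_zero he]
    have hline : ∀ c : K, g.1 (c • e) ∈ Submodule.span K {e} := fun c => by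
      obtain ⟨e', he'⟩ := S.exists_partner he0
      set z := (c / (S.J.eps * t)) • e' with hz
      have h1 : q.1 z - z = c • e := by
        rw [h, S.root_apply he, hz, S.smul_left, he', add_sub_cancel_left]
        congr 1
        show S.J.eps * (t * (c / (S.J.eps * t) * 1)) = c
        field_simp [S.J.eps_ne]
      have h2 : (g.1 * q.1 * g.1⁻¹) (g.1 z) = g.1 (q.1 z) := by
        show g.1 (q.1 (g.1⁻¹ (g.1 z))) = _
        rw [inv_apply_self]
      have h3 : (g * q * g⁻¹ : G).1 = g.1 * q.1 * g.1⁻¹ := rfl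
      rw [← h1, map_sub, ← h2, ← h3, h', S.root_apply he, add_sub_cancel_left]
      exact Submodule.smul_mem _ _ (Submodule.mem_span_singleton_self e)
    obtain ⟨T'', hT'', hg⟩ := S.exists_root_of_fix (hGM g.2) he0 he (hstab g.1 g.2 hline)
    exact Subgroup.mem_subgroupOf.2 ⟨T'', hT'', hg⟩
  obtain ⟨y, hy, hky⟩ := hkQ
  have hmem : (⟨k, hk⟩ : G) ∈ Q := htop ▸ Subgroup.mem_top _
  obtain ⟨T, -, h⟩ := Subgroup.mem_subgroupOf.1 hmem
  exact hky (by rw [show k = S.root e T from h]; exact S.root_fix he T hy)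

end Setting

end Cfsg.Agent.Lib.UnitExt
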