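import Cfsg.Agent.Lib.UnitExt.Stab

/-!
An overgroup of the `K`-linear isometries with an element that is not semilinear contains every
transvection of the trace form at every singular vector, and then at every isotropic vector.
Owner: helper95.
-/
set_option autoImplicit false
set_option linter.unusedSectionVars false
set_option linter.style.haveILetI false

namespace Cfsg.Agent.Lib.UnitExt

open Module Cfsg.Agent.Lib.ExtFieldMax
open Cfsg.Agent.Lib.K41.ExtForm (trace_ext piMap piMap_apply PSemi mem_range_of_fixed)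

variable {F K V : Type*} [Field F] [Field K] [Algebra F K] [AddCommGroup V] [Module F V]
  [Module K V] [IsScalarTower F K V] [Finite F] [Finite K] [Finite V]

namespace Setting

variable (S : Setting F K V)

theorem nonscalar_at (hnot : ∃ g ∈ S.M, ¬ IsSemi F K g) {y : V} (hy0 : y ≠ 0) (hy : S.H y y = 0) :
    ∃ T ∈ S.params hy, ∀ t, T ≠ Algebra.lmul F K t := by
  obtain ⟨e, he, he0, T, hT, hTns⟩ := S.exists_nonscalar hnot
  obtain ⟨k, hk, hkl, μ, hμ, hke⟩ := S.exists_move he0 hy0 he hy
  let P : K ≃ₗ[F] K :=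
    { toFun := fun a => μ * a
      map_add' := mul_add μ
      map_smul' := fun t a => mul_smul_comm t μ a
      invFun := fun a => μ⁻¹ * a
      left_inv := fun a => inv_mul_cancel_left₀ hμ a
      right_inv := fun a => mul_inv_cancel_left₀ hμ a }
  have hP : (P.toLinearMap : Module.End F K) = Algebra.lmul F K μ := rfl
  have h := S.params_conj hk he hy (P := P)
    (fun a => by rw [hkl, hke, ← mul_smul, mul_comm]; rfl) hT
  rw [hP, S.J.hadj_mu] at h
  refine ⟨_, h, fun t ht => hTns (μ⁻¹ * t * (S.J.s μ)⁻¹) (LinearMap.ext fun a => ?_)⟩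
  have hsμ : S.J.s μ ≠ 0 := (map_ne_zero _).2 hμ
  have h1 := LinearMap.congr_fun ht ((S.J.s μ)⁻¹ * a)
  simp only [Module.End.mul_apply, Algebra.coe_lmul_eq_mul, LinearMap.mul_apply'] at h1 ⊢
  rw [mul_inv_cancel_left₀ hsμ] at h1
  rw [← inv_mul_cancel_left₀ hμ (T a), h1]
  ring

theorem pi_mem (hnot : ∃ g ∈ S.M, ¬ IsSemi F K g) {e : V} (he0 : e ≠ 0) (he : S.H e e = 0) :
    piMap ∈ S.params he := by
  classical
  haveI : FiniteDimensional F K := Module.Finite.of_finite
  haveI : Fintype (K ≃ₐ[F] K) := Fintype.ofFinite _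
  by_cases h3 : finrank F K = 3
  · obtain ⟨T, hT, hTns⟩ := S.nonscalar_at hnot he0 he
    exact (S.params_family he0 he).piMap_three S.prime h3 hT hTns
  have h5 : 5 ≤ finrank F K := by
    obtain ⟨k, hk⟩ := S.odd
    have := S.three_le_r
    omega
  by_contra hpi
  obtain ⟨e', h1, h2, h11⟩ := S.exists_sing_partner he0 he
  have he'0 : e' ≠ 0 := fun h => by rw [h, S.zero_left] at h1; exact zero_ne_one h1
  obtain ⟨T, hT, hTns⟩ := S.nonscalar_at hnot he'0 h11
  obtain ⟨τ, hτ, hpr⟩ := (S.params_family he'0 h11).exists_pair S.prime S.odd hT hTns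
  set A : Module.End F K := S.J.pr τ 1 - Algebra.lmul F K 2 with hAdef
  have hA : A ∈ S.params h11 :=
    sub_mem (hpr 1) ((S.params_family he'0 h11).mu_mem 2 (map_ofNat _ 2))
  have hAapply : ∀ c, A c = τ c + τ⁻¹ c - 2 * c := fun c => by simp [hAdef, Inv.pr]
  have hA1 : A 1 = 0 := by rw [hAapply]; simp; ring
  have hAs : ∀ c, S.J.s (A c) = A (S.J.s c) := fun c => by
    rw [hAapply, hAapply, map_sub, map_add, map_mul, S.J.s_aut, S.J.s_aut, map_ofNat]
  -- the kernel is small
  have hker : finrank F (LinearMap.ker A) ≤ 2 := by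
    let d : Module.End F K := τ.toLinearMap - LinearMap.id
    have hd : ∀ c, d c = τ c - c := fun c => rfl
    have hdker : ∀ c, d c = 0 → c ∈ Submodule.span F {(1 : K)} := fun c hc => by
      obtain ⟨s, hs⟩ := mem_range_of_fixed S.prime hτ (sub_eq_zero.1 ((hd c).symm.trans hc))
      exact Submodule.mem_span_singleton.2 ⟨s, by rw [← hs, Algebra.algebraMap_eq_smul_one]⟩
    have hdd : ∀ c ∈ LinearMap.ker A, d (d c) = 0 := fun c hc => by
      have h := congrArg τ ((hAapply c).symm.trans (LinearMap.mem_ker.1 hc))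
      rw [map_sub, map_add, map_mul, map_ofNat, map_zero, ← AlgEquiv.mul_apply τ τ⁻¹, mul_inv_cancel,
        AlgEquiv.one_apply] at h
      rw [hd, hd, map_sub]
      linear_combination h
    let B : LinearMap.ker A →ₗ[F] K := d.domRestrict (LinearMap.ker A)
    have hran := LinearMap.finrank_range_add_finrank_ker B
    have hr1 : finrank F (LinearMap.range B) ≤ 1 := by
      have hle : LinearMap.range B ≤ Submodule.span F {(1 : K)} := by
        rintro _ ⟨⟨c, hc⟩, rfl⟩
        exact hdker _ (hdd c hc)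
      have := Submodule.finrank_mono hle
      rwa [finrank_span_singleton (one_ne_zero (α := K))] at this
    have hk1 : finrank F (LinearMap.ker B) ≤ 1 := by
      refine finrank_le_one (⟨⟨1, by rw [LinearMap.mem_ker]; exact hA1⟩, by
        rw [LinearMap.mem_ker]; show d 1 = 0; rw [hd, map_one, sub_self]⟩ : LinearMap.ker B)
        fun ⟨⟨c, hc⟩, hcB⟩ => ?_
      obtain ⟨s, hs⟩ := Submodule.mem_span_singleton.1 (hdker c (LinearMap.mem_ker.1 hcB))
      exact ⟨s, Subtype.ext (Subtype.ext hs)⟩
    omega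
  have hran := LinearMap.finrank_range_add_finrank_ker A
  obtain ⟨c0, hc0s, hc0⟩ : ∃ c, S.J.s c = c ∧ A c ≠ 0 := by
    by_contra h
    push Not at h
    have : LinearMap.ker A = ⊤ := eq_top_iff.2 fun c _ => by
      obtain ⟨a, b, ha, hb, rfl⟩ := S.J.exists_coords c
      rw [LinearMap.mem_ker, map_add, ← Algebra.smul_def, map_smul, h a ha, h b hb, smul_zero,
        add_zero]
    rw [this, finrank_top] at hker
    omega
  have hc0F : c0 ∉ Set.range (algebraMap F K) := by
    rintro ⟨s, rfl⟩
    apply hc0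
    rw [Algebra.algebraMap_eq_smul_one, map_smul, hA1, smul_zero]
  have hAc0 : S.J.s (A c0) = A c0 := by rw [hAs, hc0s]
  set g := S.root e' A with hg
  have hgM : g ∈ S.M := hA.2
  have hge : ∀ c : K, g (c • e) = c • e + (S.J.eps * A c) • e' := fun c => by
    rw [hg, S.root_apply h11, S.smul_left, h2, mul_one]
  have hgN : ∀ z, S.H z e' = 0 → g⁻¹ z = z := fun z hz => by
    rw [hg, S.root_inv h11, S.root_fix h11 _ hz]
  set t := -(S.J.eps * S.J.eps * A c0)⁻¹ with htdef
  have ht : S.J.s t = t := by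
    rw [htdef, map_neg, map_inv₀, map_mul, map_mul, S.J.s_eps, hAc0, neg_mul_neg]
  set k := g * S.root e (Algebra.lmul F K t) * g⁻¹ with hk
  have hkM : k ∈ S.M := S.M.mul_mem (S.M.mul_mem hgM (S.root_mu_mem he ht)) (S.M.inv_mem hgM)
  have hkz : ∀ z, k z = z + g ((S.J.eps * (t * S.H (g⁻¹ z) e)) • e) := fun z => by
    show g (S.root e _ (g⁻¹ z)) = _
    rw [S.root_apply he, map_add, apply_inv_self']
    rfl
  have hkde : ∀ d : K, k (d • e) = d • e + (A d / A c0) • e +
      (S.J.eps * A (A d / A c0)) • e' := by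
    intro d
    have hH : S.H (g⁻¹ (d • e)) e = -(S.J.eps * A d) := by
      rw [hg, S.root_inv h11, S.root_apply h11, S.add_left, S.smul_left, S.smul_left, he, h1,
        S.smul_left, h2, mul_one, LinearMap.neg_apply]
      ring
    rw [hkz, hH, hge, ← add_assoc,
      show S.J.eps * (t * -(S.J.eps * A d)) = A d / A c0 by
        rw [htdef]; field_simp [S.J.eps_ne]]
  have hkN : ∀ z, S.H z e = 0 → S.H z e' = 0 → k z = z := fun z hz hz' => by
    rw [hkz, hgN z hz', hz, mul_zero, mul_zero, zero_smul, map_zero, add_zero]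
  have hke : k e = e := by
    have := hkde 1
    rwa [one_smul, hA1, zero_div, zero_smul, map_zero, mul_zero, zero_smul, add_zero, add_zero] at this
  have hkc0 : k (c0 • e - e) = c0 • e := by
    rw [map_sub, hkde, hke, div_self hc0, one_smul, hA1, mul_zero, zero_smul, add_zero,
      add_sub_cancel_right]
  let F0 : Set V := {z | (S.H z e = 0 ∧ S.H z e' = 0) ∨ z = e ∨ z = c0 • e}
  refine S.stable_contra he0 he (fixG S.M F0) (fun h hh => hh.1) ?_ ?_
    (k := k * S.root e (Algebra.lmul F K 1) * k⁻¹) ?_ ?_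
  · rintro h ⟨T, hT, rfl⟩
    refine ⟨hT.2, ?_⟩
    rintro z (⟨hz, -⟩ | rfl | rfl)
    · exact S.root_fix he T hz
    · exact S.root_fix he T he
    · exact S.root_fix he T (by rw [S.smul_left, he, mul_zero])
  · intro h hh hline y hy
    obtain ⟨P, hP⟩ := exists_lineMap (g := h) he0 he0 hline
    have hPS : PSemi P := by
      by_contra hns
      refine hpi ((S.params_family he0 he).piMap_of_congr S.prime S.odd P
        (fun T hT => S.params_conj hh.1 he he hP hT) ?_)
      simpa [PSemi] using hns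
    obtain ⟨ν, hν⟩ := hPS.exists_aut
    have hfe : h e = e := hh.2 e (Or.inr (Or.inl rfl))
    have hP1 : P 1 = 1 := smul_left_injective K he0 (by
      show P 1 • e = (1 : K) • e
      rw [← hP, one_smul, hfe])
    have hν' : ∀ c, P c = ν c := fun c => by
      have h := hν c 1
      rwa [mul_one, hP1, mul_one] at h
    have hone : ν = 1 := by
      by_contra hne
      refine hc0F (mem_range_of_fixed S.prime hne (smul_left_injective K he0 ?_))
      show ν c0 • e = c0 • e
      rw [← hν', ← hP]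
      exact hh.2 _ (Or.inr (Or.inr rfl))
    have hN : S.H (y - S.H y e' • e) e = 0 ∧ S.H (y - S.H y e' • e) e' = 0 := by
      refine ⟨?_, by rw [S.sub_left, S.smul_left, h2, mul_one, sub_self]⟩
      rw [S.sub_left, S.smul_left, S.mem_perp.1 hy, he, mul_zero, sub_zero]
    have h4 := hh.2 _ (Or.inl hN)
    rw [map_sub, hP, hν', hone, AlgEquiv.one_apply] at h4
    exact sub_left_inj.1 h4
  · refine ⟨S.M.mul_mem (S.M.mul_mem hkM (S.root_mu_mem he (map_one _))) (S.M.inv_mem hkM), ?_⟩
    intro z hz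
    show k (S.root e _ (k⁻¹ z)) = z
    rw [S.root_fix he _ ?_, apply_inv_self']
    rcases hz with ⟨h4, h5⟩ | rfl | rfl
    · rw [inv_apply_of_mem_fixG (s := {z}) (H := S.M) ⟨hkM, by rintro u rfl; exact hkN _ h4 h5⟩
        (Set.mem_singleton z)]
      exact h4
    · rw [(congrArg (⇑k⁻¹) hke).symm.trans (inv_apply_self k _)]
      exact he
    · rw [← hkc0, inv_apply_self, S.sub_left, S.smul_left, he, mul_zero, sub_self]
  · by_contra h
    push Not at h
    have hpres : ∀ y ∈ S.perp e, k⁻¹ y ∈ S.perp e := fun y hy => by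
      have h4 := h y hy
      have h5 : S.root e (Algebra.lmul F K 1) (k⁻¹ y) = k⁻¹ y := by
        have h4' : k (S.root e (Algebra.lmul F K 1) (k⁻¹ y)) = y := h4
        conv_rhs => rw [← h4', inv_apply_self]
      rw [S.root_apply he, add_eq_left, smul_eq_zero] at h5
      have h6 : S.J.eps * ((1 : K) * S.H (k⁻¹ y) e) = 0 := h5.resolve_right he0
      rw [one_mul] at h6
      exact (mul_eq_zero.1 h6).resolve_left S.J.eps_ne
    let f' : S.perp e → S.perp e := fun y => ⟨k⁻¹ y, hpres _ y.2⟩
    have hinj : Function.Injective f' := fun a b hab =>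
      Subtype.ext ((k⁻¹).injective (congrArg Subtype.val hab))
    have hAA : ∀ d, A (A d / A c0) = 0 := by
      intro d
      obtain ⟨⟨y, hy⟩, hyd⟩ := Finite.injective_iff_surjective.1 hinj
        ⟨d • e, Submodule.smul_mem _ _ he⟩
      have hyk : y = k (d • e) := by
        rw [← show k⁻¹ y = d • e from congrArg Subtype.val hyd, apply_inv_self']
      rw [hyk, S.mem_perp, hkde, S.add_left, S.add_left, S.smul_left, S.smul_left, S.smul_left, he,
        h1] at hy
      simpa [S.J.eps_ne] using hy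
    let M : Module.End F K := Algebra.lmul F K (A c0)⁻¹
    have hMinj : Function.Injective M := fun a b hab => by
      simpa [M, hc0] using hab
    have hle : (LinearMap.range A).map M ≤ LinearMap.ker A := by
      rintro _ ⟨_, ⟨d, rfl⟩, rfl⟩
      show A ((A c0)⁻¹ * A d) = 0
      rw [mul_comm, ← div_eq_mul_inv]
      exact hAA d
    have h6 := Submodule.finrank_mono hle
    rw [← (Submodule.equivMapOfInjective M hMinj (LinearMap.range A)).finrank_eq] at h6
    omega

theorem exists_norm_F (r : F) (hr : S.J.σF r = r) : ∃ l : F, l * S.J.σF l = r := by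
  set e := S.J.eF
  obtain ⟨⟨a, ha⟩, ⟨b, hb⟩, hab⟩ := Cfsg.Agent.Lib.Subspaces.UnitaryForm.exists_quad_root
    (⟨-r, by show S.J.σF (-r) = -r; rw [map_neg, hr]⟩ :
      RingHom.eqLocusField S.J.σF (RingHom.id F))
    1 ⟨-(e * e), by show S.J.σF _ = -(e * e); rw [map_neg, map_mul, S.J.σF_eF]; ring⟩ one_ne_zero
    (fun h => mul_ne_zero S.J.eF_ne S.J.eF_ne (neg_eq_zero.mp (congrArg Subtype.val h)))
  have ha' : S.J.σF a = a := ha
  have hb' : S.J.σF b = b := hb
  have hab' : -r + 1 * a ^ 2 + -(e * e) * b ^ 2 = 0 := congrArg Subtype.val hab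
  refine ⟨a + b * e, ?_⟩
  rw [map_add, map_mul, ha', hb', S.J.σF_eF]
  linear_combination hab'

/-- **Conclusion.** Every transvection of the trace form at a singular vector lies in the group. -/
theorem transvection_mem (hnot : ∃ g ∈ S.M, ¬ IsSemi F K g) {v : V} (hv : S.H v v = 0) {a : F}
    (ha : a + S.J.σF a = 0) : ∃ g ∈ S.M, ∀ z, g z = z + (a * S.f z v) • v := by
  by_cases hv0 : v = 0
  · exact ⟨1, S.M.one_mem, fun z => by subst hv0; simp⟩
  obtain ⟨l, hl⟩ := S.exists_norm_F (a / S.J.eF) (by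
    rw [map_div₀, S.J.σF_eF, show S.J.σF a = -a by linear_combination ha, neg_div_neg_eq])
  by_cases hl0 : l = 0
  · refine ⟨1, S.M.one_mem, fun z => ?_⟩
    rw [hl0, zero_mul, eq_comm, div_eq_zero_iff] at hl
    rw [hl.resolve_right S.J.eF_ne, zero_mul, zero_smul, add_zero]
    rfl
  have hlv : S.H (l • v) (l • v) = 0 := by
    rw [← algebraMap_smul K l v, S.smul_left, S.smul_right, hv, mul_zero, mul_zero]
  refine ⟨S.root (l • v) piMap, (S.pi_mem hnot (smul_ne_zero hl0 hv0) hlv).2, fun z => ?_⟩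
  rw [S.root_apply hlv, piMap_apply, Inv.eps, ← map_mul, algebraMap_smul, smul_smul]
  congr 2
  have h : S.f z (l • v) = S.J.σF l * S.f z v := by
    rw [f, ← algebraMap_smul K l v, S.smul_right, S.J.compat, ← Algebra.smul_def, map_smul]; rfl
  rw [show Algebra.trace F K (S.H z (l • v)) = S.f z (l • v) from rfl, h,
    show a = S.J.eF * (l * S.J.σF l) by rw [hl, mul_div_cancel₀ _ S.J.eF_ne]]
  ring

/-- Every isotropic vector is a sum of two singular vectors with non-zero product. -/
theorem exists_split {v : V} (hv : S.f v v = 0) (hvv : S.H v v ≠ 0) :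
    ∃ v1 v2 : V, v = v1 + v2 ∧ S.H v1 v1 = 0 ∧ S.H v2 v2 = 0 ∧ S.f v1 v2 ≠ 0 ∧
      S.J.σF (S.f v1 v2) = - S.f v1 v2 := by
  haveI : FiniteDimensional K V := Module.Finite.of_finite
  set h := S.H v v with hh
  obtain ⟨c1, hc1⟩ := S.J.exists_trace (h := -h) (by rw [map_neg, S.self_real])
  rw [neg_neg] at hc1
  obtain ⟨c, hc, hct⟩ : ∃ c, c + S.J.s c = h ∧ Algebra.trace F K c ≠ 0 := by
    by_cases h0 : Algebra.trace F K c1 = 0
    · obtain ⟨u, hu, htu⟩ : ∃ u, S.J.s u = u ∧ Algebra.trace F K u ≠ 0 := by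
        by_contra hcon
        push Not at hcon
        obtain ⟨b, hb⟩ := Algebra.trace_surjective F K 1
        obtain ⟨b1, b2, h1, h2, rfl⟩ := S.J.exists_coords b
        rw [map_add, ← Algebra.smul_def, map_smul, hcon b1 h1, hcon b2 h2, smul_zero, add_zero] at hb
        exact zero_ne_one hb
      refine ⟨c1 + S.J.eps * u, ?_, ?_⟩
      · rw [map_add, map_mul, S.J.s_eps, hu]; linear_combination hc1
      · rw [map_add, h0, zero_add, Inv.eps, ← Algebra.smul_def, map_smul, smul_eq_mul]
        exact mul_ne_zero S.J.eF_ne htu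
    · exact ⟨c1, hc1, h0⟩
  have hv0 : v ≠ 0 := fun h' => hvv (by rw [hh, h', S.zero_left])
  obtain ⟨z, hz, hzz⟩ : ∃ z, S.H z v = 0 ∧ S.H z z ≠ 0 := by
    by_contra hcon
    push Not at hcon
    obtain ⟨z, hz, hz0⟩ := (Submodule.ne_bot_iff _).1 (show S.perp v ≠ ⊥ by
      intro hb
      have h1 := S.finrank_perp hv0
      rw [hb, finrank_bot] at h1
      have := S.two_le
      omega)
    refine hz0 (S.nondeg z fun w => ?_)
    set w' := w - (S.H w v / h) • v with hw'
    have hwv : S.H w' v = 0 := by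
      rw [hw', S.sub_left, S.smul_left, ← hh, div_mul_cancel₀ _ hvv, sub_self]
    have hzv : S.H z v = 0 := hz
    have hpol : ∀ cc : K, S.J.s cc * S.H z w' + cc * S.J.s (S.H z w') = 0 := fun cc => by
      have h1 := hcon (z + cc • w') (by rw [S.add_left, S.smul_left, hzv, hwv]; ring)
      rw [S.add_left, S.add_right, S.add_right, S.smul_left, S.smul_left, S.smul_right, S.smul_right,
        hcon z hzv, hcon w' hwv, S.herm z w'] at h1
      linear_combination h1
    have k1 := hpol 1
    rw [map_one, one_mul, one_mul] at k1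
    have k2 := hpol (algebraMap F K S.J.ω)
    have k3 : (S.J.s (algebraMap F K S.J.ω) - algebraMap F K S.J.ω) * S.H z w' = 0 := by
      linear_combination k2 - algebraMap F K S.J.ω * k1
    have h0 : S.H z w' = 0 := (mul_eq_zero.1 k3).resolve_left (sub_ne_zero.2 S.J.s_omega)
    rw [hw', S.sub_right, S.smul_right, hzv, mul_zero, sub_zero] at h0
    exact h0
  have hhr : S.J.s h = h := S.self_real v
  obtain ⟨l, hl⟩ := S.J.exists_norm (h := -(c * S.J.s c) / h / S.H z z) (by
    rw [map_div₀, map_div₀, map_neg, map_mul, S.J.invol, hhr, S.self_real, mul_comm c])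
  set v1 := (c / h) • v + l • z with hv1
  have hlz : l * (S.J.s l * S.H z z) = -(c * S.J.s c) / h := by
    rw [← mul_assoc, hl, div_mul_cancel₀ _ hzz]
  have h11 : S.H v1 v1 = 0 := by
    simp only [hv1, S.add_left, S.add_right, S.smul_left, S.smul_right, hz, S.orth_symm hz,
      map_div₀, hhr, ← hh, hlz]
    field_simp
    ring
  have h1v : S.H v1 v = c := by
    simp only [hv1, S.add_left, S.smul_left, hz, ← hh, mul_zero, add_zero]
    field_simp
  have hv1' : S.H v v1 = S.J.s c := by rw [S.herm, h1v]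
  refine ⟨v1, v - v1, (add_sub_cancel v1 v).symm, h11, ?_, ?_, ?_⟩
  · rw [S.sub_left, S.sub_right, S.sub_right, ← hh, hv1', h1v, h11]
    linear_combination -hc
  · rw [f, S.sub_right, h1v, h11, sub_zero]; exact hct
  · rw [f, S.sub_right, h1v, h11, sub_zero, ← S.J.trace_s']
    have h1 : Algebra.trace F K c + Algebra.trace F K (S.J.s c) = 0 := by
      rw [← map_add, hc]; exact hv
    linear_combination h1

end Setting

end Cfsg.Agent.Lib.UnitExt
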