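import Cfsg.Agent.Lib.UnitExt.Main
import Cfsg.Agent.Lib.K41.ExtForm.OfMatrix
import Cfsg.Agent.Lib.Subspaces.UnitaryGen

/-!
The normaliser of an adjoint-closed field subalgebra of odd prime degree is maximal in `SU n q`,
when the dimension over the field is two or at least four.
Owner: helper95.
-/
set_option autoImplicit false
set_option linter.unusedSectionVars false
set_option linter.style.haveILetI false

namespace Cfsg.Agent.Lib.UnitExt

open Module Matrix Cfsg.Agent.Lib.ExtFieldMax Cfsg.Agent.Lib.Subspaces.Transvection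
  Cfsg.Agent.Lib.Subspaces.FormVec Cfsg.Agent.Lib.Subspaces.UnitaryGen
open Cfsg.Agent.Lib.Subspaces
open Cfsg.Agent.Lib.K41.ExtForm (fieldOfSub subModule glEquiv glEquiv_apply mat_ext'
  mem_normalizer_of_semi semi_of_mem_normalizer dualEquiv dualEquiv_apply trace_ext)

theorem pow_gt (q r : ℕ) (h : (3 ≤ q ∧ 3 ≤ r) ∨ (2 ≤ q ∧ 5 ≤ r)) : r * (q + 1) ≤ q ^ r := by
  have step : ∀ q, 2 ≤ q → ∀ r0, 1 ≤ r0 → r0 * (q + 1) ≤ q ^ r0 → ∀ r, r0 ≤ r →
      r * (q + 1) ≤ q ^ r := by
    intro q hq r0 hr0 h0 r hr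
    induction r, hr using Nat.le_induction with
    | base => exact h0
    | succ r hr ih =>
      rw [pow_succ, add_mul, one_mul]
      have h1 : q + 1 ≤ r * (q + 1) := Nat.le_mul_of_pos_left _ (by omega)
      have h2 : q ^ r * 2 ≤ q ^ r * q := Nat.mul_le_mul_left _ hq
      omega
  rcases h with ⟨hq, hr⟩ | ⟨hq, hr⟩
  · exact step q (by omega) 3 (by norm_num) (by
      have : 3 * 3 * q ≤ q * q * q := Nat.mul_le_mul_right _ (Nat.mul_le_mul hq hq)
      rw [pow_succ, pow_two]
      omega) r hr
  · exact step q hq 5 (by norm_num) (by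
      have h4 : 16 ≤ q ^ 4 := by
        calc 16 = 2 ^ 4 := by norm_num
          _ ≤ q ^ 4 := Nat.pow_le_pow_left hq 4
      have : 16 * q ≤ q ^ 4 * q := Nat.mul_le_mul_right _ h4
      rw [pow_succ]
      omega) r hr

/-- A scalar of norm one outside the ground field. -/
theorem Inv.exists_zeta {F K : Type*} [Field F] [Field K] [Algebra F K] [Finite F] [Finite K]
    (J : Inv F K) {q : ℕ} (hF : Nat.card F = q ^ 2) (hσ : ∀ t, J.σF t = t ^ q)
    (hr : (finrank F K).Prime) (hodd : Odd (finrank F K))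
    (h : 3 ≤ q ∨ 5 ≤ finrank F K) :
    ∃ ζ : K, J.s ζ * ζ = 1 ∧ Algebra.norm F ζ = 1 ∧ ζ ∉ Set.range (algebraMap F K) := by
  classical
  haveI : FiniteDimensional F K := Module.Finite.of_finite
  haveI : Fintype (K ≃ₐ[F] K) := Fintype.ofFinite _
  haveI := Fintype.ofFinite K
  set r := finrank F K with hr'
  have hq2 : 2 ≤ q := by
    by_contra hlt
    push Not at hlt
    have h1 : 1 < Nat.card F := Finite.one_lt_card
    rw [hF] at h1
    interval_cases q <;> simp at h1
  obtain ⟨τ, hτ⟩ : ∃ τ : K ≃ₐ[F] K, τ ≠ 1 := by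
    haveI : Nontrivial (K ≃ₐ[F] K) := by
      rw [← Finite.one_lt_card_iff_nontrivial, IsGalois.card_aut_eq_finrank]
      exact hr.one_lt
    exact exists_ne _
  by_contra hcon
  push Not at hcon
  let R := {u : K // J.s u = u}
  have hw : ∀ u : K, u ≠ 0 → (u / J.s u) ^ (r * (q + 1)) = 1 := by
    intro u hu
    set w := u / J.s u with hw
    have hsu : J.s u ≠ 0 := (map_ne_zero _).2 hu
    have hw0 : w ≠ 0 := div_ne_zero hu hsu
    have hsw : J.s w * w = 1 := by rw [hw, map_div₀, J.invol]; field_simp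
    set z := w / τ w with hz
    have hτw : τ w ≠ 0 := by simpa using hw0
    have hz1 : J.s z * z = 1 := by
      rw [hz, map_div₀, J.s_aut, div_mul_div_comm, hsw, ← map_mul, hsw, map_one, div_one]
    have hN : Algebra.norm F z = 1 := by
      apply mul_right_cancel₀ (Algebra.norm_ne_zero_iff.2 hτw : Algebra.norm F (τ w) ≠ 0)
      rw [← map_mul, hz, div_mul_cancel₀ _ hτw, one_mul, Algebra.norm_eq_of_algEquiv]
    obtain ⟨t, ht⟩ := hcon z hz1 hN
    have htr : t ^ r = 1 := by rw [← Algebra.norm_algebraMap (S := K), ht, hN]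
    have hfix : τ (w ^ r) = w ^ r := by
      have h1 : w = algebraMap F K t * τ w := by rw [ht, hz, div_mul_cancel₀ _ hτw]
      conv_rhs => rw [h1]
      rw [mul_pow, ← map_pow, htr, map_one, one_mul, map_pow]
    obtain ⟨e, he⟩ := Cfsg.Agent.Lib.K41.ExtForm.mem_range_of_fixed hr hτ hfix
    have h2 : J.s (w ^ r) * w ^ r = 1 := by rw [map_pow, ← mul_pow, hsw, one_pow]
    rw [← he, J.compat, hσ, ← map_mul, ← pow_succ] at h2
    rw [pow_mul, ← he, ← map_pow, h2]
  -- counting
  have hK0 : Nat.card K = Nat.card R ^ 2 := by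
    let e : R × R → K := fun p => p.1.1 + algebraMap F K J.ω * p.2.1
    have he : Function.Bijective e := by
      refine ⟨fun p p' h => ?_, fun y => ?_⟩
      · have h' : p.1.1 + algebraMap F K J.ω * p.2.1 = p'.1.1 + algebraMap F K J.ω * p'.2.1 := h
        have h2 := congrArg J.s h'
        rw [map_add, map_add, map_mul, map_mul, p.1.2, p.2.2, p'.1.2, p'.2.2] at h2
        have h3 : (p.2.1 - p'.2.1) * (algebraMap F K J.ω - J.s (algebraMap F K J.ω)) = 0 := by
          linear_combination h' - h2
        have h4 : p.2.1 = p'.2.1 := sub_eq_zero.1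
          ((mul_eq_zero.1 h3).resolve_right (sub_ne_zero.2 (Ne.symm J.s_omega)))
        exact Prod.ext (Subtype.ext (by linear_combination h' - algebraMap F K J.ω * h4))
          (Subtype.ext h4)
      · obtain ⟨a, b, ha, hb, rfl⟩ := J.exists_coords y
        exact ⟨(⟨a, ha⟩, ⟨b, hb⟩), rfl⟩
    rw [← Nat.card_congr (Equiv.ofBijective e he), Nat.card_prod, pow_two]
  have hR : Nat.card R = q ^ r := by
    have h1 : Nat.card K = Nat.card F ^ r := Module.natCard_eq_pow_finrank
    rw [hK0, hF, ← pow_mul, mul_comm 2, pow_mul] at h1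
    exact Nat.pow_left_injective two_ne_zero h1
  let N := r * (q + 1)
  let T := {w : K // w ^ N = 1}
  have hNpos : 0 < N := Nat.mul_pos hr.pos (Nat.succ_pos q)
  have hT : Nat.card T ≤ N := by
    have h1 : ∀ w : T, w.1 ∈ (Polynomial.nthRoots N (1 : K)).toFinset := fun w => by
      rw [Multiset.mem_toFinset, Polynomial.mem_nthRoots hNpos]; exact w.2
    calc Nat.card T ≤ Nat.card (Polynomial.nthRoots N (1 : K)).toFinset :=
          Nat.card_le_card_of_injective (fun w => ⟨w.1, h1 w⟩) fun a b hab =>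
            Subtype.ext (by simpa using hab)
      _ ≤ N := by
          rw [Nat.card_eq_finsetCard]
          exact (Multiset.toFinset_card_le _).trans (Polynomial.card_nthRoots _ _)
  have hone : 1 ≤ Nat.card R := Nat.pos_of_ne_zero (by rw [hR]; positivity)
  -- every non-zero element is a real multiple of a fixed lift of its ratio
  let R' := {u : R // u.1 ≠ 0}
  have hcount : Nat.card {u : K // u ≠ 0} ≤ Nat.card T * Nat.card R' := by
    let f : {u : K // u ≠ 0} → T := fun u => ⟨u.1 / J.s u.1, hw u.1 u.2⟩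
    have hbound : ∀ w : T, Nat.card {u : {u : K // u ≠ 0} // f u = w} ≤ Nat.card R' := by
      intro w
      by_cases hne : Nonempty {u : {u : K // u ≠ 0} // f u = w}
      · obtain ⟨u0⟩ := hne
        have hreal : ∀ u : {u : {u : K // u ≠ 0} // f u = w},
            J.s (u.1.1 / u0.1.1) = u.1.1 / u0.1.1 := fun u => by
          have h1 : u.1.1 / J.s u.1.1 = u0.1.1 / J.s u0.1.1 :=
            congrArg Subtype.val (u.2.trans u0.2.symm)
          have hu := u.1.2
          have hu0 := u0.1.2
          have hsu : J.s u.1.1 ≠ 0 := (map_ne_zero _).2 hu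
          have hsu0 : J.s u0.1.1 ≠ 0 := (map_ne_zero _).2 hu0
          rw [map_div₀, div_eq_div_iff hsu0 hu0]
          rw [div_eq_div_iff hsu hsu0] at h1
          linear_combination -h1
        refine Nat.card_le_card_of_injective
          (fun u => (⟨⟨u.1.1 / u0.1.1, hreal u⟩, div_ne_zero u.1.2 u0.1.2⟩ : R')) fun a b hab => ?_
        have h1 : a.1.1 / u0.1.1 = b.1.1 / u0.1.1 := congrArg (fun x : R' => x.1.1) hab
        exact Subtype.ext (Subtype.ext (by have := u0.1.2; field_simp at h1; exact h1))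
      · haveI := not_nonempty_iff.1 hne
        simp
    haveI : Fintype T := Fintype.ofFinite _
    rw [← Nat.card_congr (Equiv.sigmaFiberEquiv f), Nat.card_sigma, Nat.card_eq_fintype_card (α := T)]
    calc ∑ w, Nat.card {u : {u : K // u ≠ 0} // f u = w} ≤ ∑ _w : T, Nat.card R' :=
          Finset.sum_le_sum fun w _ => hbound w
      _ = _ := by simp
  have hR' : Nat.card R' + 1 = Nat.card R := by
    haveI : Fintype R := Fintype.ofFinite _
    rw [Nat.card_eq_fintype_card, Nat.card_eq_fintype_card]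
    have : Fintype.card R' = Fintype.card R - 1 := by
      rw [show Fintype.card R' = Fintype.card {u : R // ¬ u = ⟨0, map_zero _⟩} from
        Fintype.card_congr (Equiv.subtypeEquivRight fun u =>
          (not_congr (Subtype.ext_iff (a1 := u) (a2 := ⟨0, map_zero _⟩))).symm),
        Fintype.card_subtype_compl, Fintype.card_subtype_eq]
    rw [this, Nat.sub_add_cancel]
    exact Fintype.card_pos_iff.2 ⟨⟨0, map_zero _⟩⟩
  have hK : Nat.card {u : K // u ≠ 0} + 1 = Nat.card R ^ 2 := by
    rw [← hK0, Nat.card_eq_fintype_card, Nat.card_eq_fintype_card, Fintype.card_subtype_compl,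
      Fintype.card_subtype_eq, Nat.sub_add_cancel Fintype.card_pos]
  have hgt := pow_gt q r (by
    obtain ⟨k, hk⟩ := hodd
    have := hr.two_le
    rcases h with h | h <;> omega)
  rw [← hR] at hgt
  have h5 : Nat.card {u : K // u ≠ 0} ≤ N * Nat.card R' := hcount.trans (Nat.mul_le_mul_right _ hT)
  have h6 : N * Nat.card R' ≤ Nat.card R * Nat.card R' := Nat.mul_le_mul_right _ hgt
  have h7 : Nat.card R ^ 2 = Nat.card R * Nat.card R' + Nat.card R := by
    rw [pow_two, ← Nat.mul_add_one, hR']
  have h8 : 1 < Nat.card R := by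
    rw [hR]; exact Nat.one_lt_pow hr.ne_zero (by omega)
  omega

/-- **Main theorem.** -/
theorem maximal {F : Type*} [Field F] [Fintype F] {n q : ℕ} (hF : Fintype.card F = q ^ 2) (r : ℕ)
    (hr : r.Prime) (hro : Odd r) (K : Subalgebra F (Matrix (Fin n) (Fin n) F))
    (hK : Cfsg.Geo.IsFieldSubalgebra r K)
    (hac : Cfsg.Geo.IsAdjointClosedFor (Cfsg.hermForm n F q) K)
    (hdim : ∃ m, n = r * m ∧ (4 ≤ m ∨ (m = 2 ∧ (3 ≤ q ∨ 5 ≤ r)))) :
    Cfsg.Geo.IsMaximalIn (Cfsg.GU n F q ⊓ Cfsg.Geo.specialLinear (Fin n) F)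
      (Cfsg.Geo.subalgebraNormalizer K ⊓ (Cfsg.GU n F q ⊓ Cfsg.Geo.specialLinear (Fin n) F)) := by
  classical
  obtain ⟨m, hnm, hm⟩ := hdim
  have hm2 : 2 ≤ m := by rcases hm with h | ⟨h, -⟩ <;> omega
  have hr3 : 3 ≤ r := by
    obtain ⟨k, hk⟩ := hro
    have := hr.two_le
    omega
  have hn6 : 6 ≤ n := by rw [hnm]; exact (Nat.mul_le_mul hr3 hm2)
  haveI : Nonempty (Fin n) := ⟨⟨0, by omega⟩⟩
  letI : Field K := fieldOfSub hK
  letI hmod : Module K (Fin n → F) := subModule K
  haveI : @IsScalarTower F K (Fin n → F) Algebra.toSMul hmod.toSMul inferInstance :=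
    ⟨fun a k x => smul_mulVec a (k : Matrix (Fin n) (Fin n) F) x⟩
  have hsmul : ∀ (k : K) (x : Fin n → F), k • x = (k : Matrix (Fin n) (Fin n) F) *ᵥ x :=
    fun k x => rfl
  haveI : Finite K := Finite.of_injective
    (fun x : K => (x : Matrix (Fin n) (Fin n) F)) Subtype.val_injective
  haveI : Finite (Fin n → F) := inferInstance
  haveI : Nontrivial (Fin n → F) := inferInstance
  haveI : FiniteDimensional K (Fin n → F) := Module.Finite.of_finite
  have hfr : finrank F K = r := hK.finrank_eq
  have hmK : finrank K (Fin n → F) = m := by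
    have h := Module.finrank_mul_finrank F K (Fin n → F)
    rw [hfr, (Module.finrank_fin_fun (R := F)).trans hnm] at h
    exact Nat.eq_of_mul_eq_mul_left hr.pos h
  set f := Cfsg.hermForm n F q with hfdef
  have hf : Cfsg.Geo.IsUnitaryForm (powAut hF) f := hermForm_isUnitary hF
  have hadj : ∀ k : K, ∃ k' : K, ∀ u v : Fin n → F, f (k • u) v = f u (k' • v) := fun k => by
    obtain ⟨k', hk', h⟩ := hac k.1 k.2
    exact ⟨⟨k', hk'⟩, h⟩
  choose adjK hadjK using hadj
  have huniq : ∀ a b : K, (∀ u v, f u (a • v) = f u (b • v)) → a = b := fun a b h => by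
    refine Subtype.ext (mat_ext' fun v => ?_)
    by_contra hne
    obtain ⟨⟨y, hy⟩, -⟩ := hf.nondegenerate _ (sub_ne_zero.2 hne)
    apply hy
    rw [UnitaryForm.sub_right hf]
    exact sub_eq_zero.2 (h y v)
  have hswap : ∀ (k : K) u v, f u (k • v) = f (adjK k • u) v := fun k u v => by
    rw [hf.herm, hadjK, ← hf.herm]
  let σ : F →+* F := (powAut hF : F →+* F)
  let s : K →+* K :=
    { toFun := adjK
      map_one' := huniq _ _ fun u v => by rw [← hadjK, one_smul, one_smul]
      map_mul' := fun a b => huniq _ _ fun u v => by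
        rw [← hadjK, mul_smul, hadjK, hadjK, ← mul_smul, mul_comm (adjK b)]
      map_zero' := huniq _ _ fun u v => by
        rw [← hadjK, zero_smul, zero_smul, UnitaryForm.herm_zero_left hf, UnitaryForm.zero_right hf]
      map_add' := fun a b => huniq _ _ fun u v => by
        rw [← hadjK]; erw [add_smul, add_smul]; rw [hf.add_left, UnitaryForm.add_right hf]
        exact congrArg₂ (· + ·) (hadjK a u v) (hadjK b u v) }
  have hs : ∀ (k : K) u v, f (k • u) v = f u (s k • v) := hadjK
  let J : Inv F K :=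
    { s := s
      invol := fun x => huniq _ _ fun u v => by
        rw [← hs, hswap]; rfl
      σF := σ
      compat := fun t => huniq _ _ fun u v => by
        rw [← hs]; erw [algebraMap_smul, algebraMap_smul]; rw [hf.smul_left, UnitaryForm.smul_right hf]
        show t * _ = powAut hF (powAut hF t) * _
        rw [hf.involutive]
      ω := Classical.choose (show ∃ b, powAut hF b ≠ b by
        by_contra h
        push Not at h
        exact hf.ne_refl (RingEquiv.ext h))
      move := Classical.choose_spec (show ∃ b, powAut hF b ≠ b by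
        by_contra h
        push Not at h
        exact hf.ne_refl (RingEquiv.ext h)) }
  let Λ : (Fin n → F) → (Fin n → F) → Module.Dual F K := fun x y =>
    { toFun := fun c => f (c • x) y
      map_add' := fun a b => by erw [add_smul]; rw [hf.add_left]; rfl
      map_smul' := fun t a => by rw [smul_assoc, hf.smul_left]; rfl }
  let H : (Fin n → F) → (Fin n → F) → K := fun x y => dualEquiv.symm (Λ x y)
  have hH : ∀ x y (c : K), Algebra.trace F K (c * H x y) = f (c • x) y := fun x y c => by
    have h := LinearMap.congr_fun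
      (LinearEquiv.apply_symm_apply (dualEquiv (F := F) (K := K)) (Λ x y)) c
    rw [dualEquiv_apply, mul_comm] at h
    exact h
  have hH1 : ∀ x y, Algebra.trace F K (H x y) = f x y := fun x y => by
    simpa using hH x y (1 : K)
  have mk : ∀ M : Subgroup (GL (Fin n) F),
      Cfsg.Geo.subalgebraNormalizer K ⊓ (Cfsg.GU n F q ⊓ Cfsg.Geo.specialLinear (Fin n) F) ≤ M →
      M ≤ Cfsg.GU n F q ⊓ Cfsg.Geo.specialLinear (Fin n) F →
      ∃ S : Setting F K (Fin n → F), S.M = M.map (glEquiv (F := F) (ι := Fin n)).toMonoidHom ∧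
        (∀ x y, S.f x y = f x y) ∧ ∀ t, S.J.σF t = powAut hF t := by
    intro M hHM hMS
    refine ⟨{
      J := J
      H := H
      add_left := fun x y z => trace_ext (F := F) fun a => by
        rw [mul_add, map_add, hH, hH, hH, smul_add, hf.add_left]
      smul_left := fun c x z => trace_ext (F := F) fun a => by
        rw [← mul_assoc, hH, hH, mul_smul]; rfl
      herm := fun x y => trace_ext (F := F) fun a => by
        rw [hH, show a * J.s (H x y) = J.s (J.s a * H x y) by rw [map_mul, J.invol],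
          J.trace_s', hH]
        show f (a • y) x = powAut hF (f (s a • x) y)
        rw [hf.herm]
        exact congrArg _ (hswap a x y)
      nondeg := fun x h => by
        by_contra hx
        obtain ⟨-, y, hy⟩ := hf.nondegenerate x hx
        apply hy
        rw [← hH1, h, map_zero]
      M := M.map (glEquiv (F := F) (ι := Fin n)).toMonoidHom
      iso := fun g hg x y => by
        obtain ⟨A, hA, rfl⟩ := Subgroup.mem_map.1 hg
        rw [hH1, hH1]
        exact mem_GU_iff'.1 (hMS hA).1 x y
      lin_mem := fun g hgl hgf hgd => by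
        obtain ⟨A, rfl⟩ := (glEquiv (F := F) (ι := Fin n)).surjective g
        refine Subgroup.mem_map.2 ⟨A, hHM ⟨?_, ?_, ?_⟩, rfl⟩
        · exact mem_normalizer_of_semi K A fun c hc => ⟨c, hc, fun x => hgl ⟨c, hc⟩ x⟩
        · exact mem_GU_iff'.2 fun x y => by
            have h := hgf x y
            rw [hH1, hH1] at h
            exact h
        · show A ∈ Cfsg.Geo.specialLinear (Fin n) F
          rw [mem_specialLinear_iff]
          rw [show ((glEquiv A : (Fin n → F) ≃ₗ[F] (Fin n → F)) : (Fin n → F) →ₗ[F] (Fin n → F)) =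
            Matrix.toLin' (A : Matrix (Fin n) (Fin n) F) from rfl, LinearMap.det_toLin'] at hgd
          exact hgd
      prime := hfr.symm ▸ hr
      odd := hfr.symm ▸ hro
      dims := by
        rw [hmK]
        rcases hm with h | ⟨h, hq⟩
        · exact Or.inl h
        · refine Or.inr ⟨h, J.exists_zeta (q := q) ?_ (fun t => powAut_apply hF t)
            (hfr.symm ▸ hr) (hfr.symm ▸ hro) (by rw [hfr]; exact hq)⟩
          rw [Nat.card_eq_fintype_card, hF] }, rfl, fun x y => hH1 x y, fun t => rfl⟩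
  refine isMaximalIn_of inf_le_right ?_ ?_
  · -- a transvection of the form is not semilinear
    obtain ⟨S, hSM, hSf, -⟩ := mk (Cfsg.GU n F q ⊓ Cfsg.Geo.specialLinear (Fin n) F)
      inf_le_right le_rfl
    obtain ⟨v, hv, hvv⟩ := S.exists_singular
    have hvf : f v v = 0 := by rw [← hSf, Setting.f, hvv, map_zero]
    obtain ⟨e, he0, he⟩ := UnitaryForm.exists_skew_scalar hf
    refine ⟨_, utv_mem_SU hF hvf he, fun h => ?_⟩
    have ht : ∀ x, (tv v (e • formVec f v) : Matrix (Fin n) (Fin n) F) *ᵥ x =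
        x + (e * f x v) • v := fun x => UnitaryForm.utv_mulVec hf hvf e x
    obtain ⟨w, hw⟩ : ∃ w, f w v = 1 := by
      obtain ⟨⟨y, hy⟩, -⟩ := hf.nondegenerate v hv
      refine ⟨(f y v)⁻¹ • y, ?_⟩
      rw [hf.smul_left, inv_mul_cancel₀ hy]
    obtain ⟨c, hc⟩ := Cfsg.Agent.Lib.K41.ExtForm.exists_not_range (F := F) (K := K)
      (hfr.symm ▸ hr)
    obtain ⟨d, hdK, hd⟩ := semi_of_mem_normalizer h.1 c.2
    let φ : (Fin n → F) →ₗ[F] (Fin 2 → F) :=
      { toFun := fun x => ![f x v, f (c • x) v]
        map_add' := fun x y => by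
          ext i; fin_cases i <;> simp [hf.add_left, smul_add]
        map_smul' := fun t x => by
          ext i; fin_cases i <;> simp [hf.smul_left, smul_comm c t x] }
    obtain ⟨x, hx, hx0⟩ : ∃ x ∈ LinearMap.ker φ, x ≠ 0 := by
      refine (Submodule.ne_bot_iff _).1 fun hk => ?_
      have h1 := LinearMap.finrank_le_finrank_of_injective (LinearMap.ker_eq_bot.1 hk)
      rw [Module.finrank_fin_fun, Module.finrank_fin_fun] at h1
      omega
    have hx1 : f x v = 0 := congrFun (LinearMap.mem_ker.1 hx) 0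
    have hx2 : f (c • x) v = 0 := congrFun (LinearMap.mem_ker.1 hx) 1
    have hdc : (⟨d, hdK⟩ : K) = c := by
      refine smul_left_injective K hx0 ?_
      show d *ᵥ x = c • x
      have h1 := hd x
      rw [ht, ht, ← hsmul, hx1, hx2, mul_zero, zero_smul, add_zero, add_zero] at h1
      exact h1.symm
    have hdc' : d = (c : Matrix (Fin n) (Fin n) F) := congrArg Subtype.val hdc
    have h2 := hd w
    rw [ht, ht, hw, hdc', ← hsmul, ← hsmul, mul_one, smul_add, add_right_inj,
      ← algebraMap_smul K (e * f (c • w) v) v, ← algebraMap_smul K e v] at h2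
    have h3 := smul_left_injective K hv (h2.trans (mul_smul c (algebraMap F K e) v).symm)
    refine hc ⟨f (c • w) v, ?_⟩
    rw [map_mul] at h3
    exact mul_left_cancel₀ ((map_ne_zero _).2 he0) (by rw [h3, mul_comm])
  · intro M hHM hMS g hg hgn
    obtain ⟨S, hSM, hSf, hσ⟩ := mk M hHM hMS
    have hnot : ∃ k ∈ S.M, ¬ IsSemi F K k := by
      refine ⟨glEquiv g, hSM ▸ Subgroup.mem_map.2 ⟨g, hg, rfl⟩, fun hk => hgn ⟨?_, hMS hg⟩⟩
      refine mem_normalizer_of_semi K g fun c hc => ?_
      obtain ⟨d, hd⟩ := hk ⟨c, hc⟩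
      exact ⟨d, d.2, hd⟩
    have hsing : ∀ v, S.H v v = 0 → UnitCenter (powAut hF) f M v := by
      intro v hv
      have hvf : f v v = 0 := by rw [← hSf, Setting.f, hv, map_zero]
      refine ⟨hvf, fun a ha => ?_⟩
      obtain ⟨k, hk, hkz⟩ := S.transvection_mem hnot hv (a := a) (by rw [hσ]; exact ha)
      rw [hSM] at hk
      obtain ⟨A, hA, rfl⟩ := Subgroup.mem_map.1 hk
      have hAt : A = tv v (a • formVec f v) := gl_ext fun x => by
        rw [UnitaryForm.utv_mulVec hf hvf]
        have h1 := hkz x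
        rw [hSf] at h1
        exact h1
      exact hAt ▸ hA
    refine su_le hF (by omega) fun v hv => ?_
    by_cases hvv : S.H v v = 0
    · exact hsing v hvv
    obtain ⟨v1, v2, hsum, h1, h2, hne, hsk⟩ := S.exists_split (by rw [hSf]; exact hv) hvv
    have ha : (S.f v1 v2)⁻¹ + powAut hF (S.f v1 v2)⁻¹ = 0 := by
      rw [← hσ, map_inv₀, hsk, inv_neg, add_neg_cancel]
    have h := unitCenter_move hf (hsing v2 h2) (hsing v1 h1) ha
    rw [← hSf, inv_mul_cancel₀ hne, one_smul, ← hsum] at h
    exact h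

end Cfsg.Agent.Lib.UnitExt
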