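import Cfsg.Agent.Lib.UnitExt.Basic
import Cfsg.Agent.Lib.K41.ExtForm.Main
import Mathlib.FieldTheory.ChevalleyWarning

/-!
A group of trace isometries with an element that is not semilinear has a root element, at some
singular vector, whose parameter is not a multiplication.
Owner: helper95.
-/
set_option autoImplicit false
set_option linter.unusedSectionVars false
set_option linter.style.haveILetI false

namespace Cfsg.Agent.Lib.UnitExt

open Module Cfsg.Agent.Lib.ExtFieldMax
open Cfsg.Agent.Lib.K41.ExtForm (trace_ext piMap piMap_apply PSemi mem_range_of_fixed)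

variable {F K V : Type*} [Field F] [Field K] [Algebra F K] [AddCommGroup V] [Module F V]
  [Module K V] [IsScalarTower F K V] [Finite F] [Finite K] [Finite V]

/-- The trace map is not a multiplication. -/
theorem piMap_ne_mu (h2 : 2 ≤ finrank F K) (t : K) :
    (piMap : Module.End F K) ≠ Algebra.lmul F K t := by
  intro h
  haveI : FiniteDimensional F K := Module.Finite.of_finite
  obtain ⟨a, ha, ha0⟩ := (Submodule.ne_bot_iff _).1 (LinearMap.ker_ne_bot_of_finrank_lt
    (f := Algebra.trace F K) (by rw [Module.finrank_self]; omega))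
  have h1 := LinearMap.congr_fun h a
  rw [piMap_apply, LinearMap.mem_ker.1 ha, map_zero] at h1
  have ht : t = 0 := by
    rcases mul_eq_zero.1 (h1.symm : t * a = 0) with h3 | h3
    · exact h3
    · exact absurd h3 ha0
  obtain ⟨b, hb⟩ := Algebra.trace_surjective F K 1
  have h3 := LinearMap.congr_fun h b
  rw [piMap_apply, hb, map_one, ht, map_zero] at h3
  exact one_ne_zero h3

/-- Anti-hermitian parts of all real translates being scalar forces linearity. -/
theorem Inv.comm_of_skew (J : Inv F K) (φ : Module.End F K)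
    (h : ∀ d : K, J.s d = d → ∃ t : K, φ * Algebra.lmul F K d -
      J.hadj (φ * Algebra.lmul F K d) = Algebra.lmul F K t)
    (a : K) : φ a = a * φ 1 := by
  haveI := Fintype.ofFinite K
  suffices hreal : ∀ d, J.s d = d → ∀ x, φ (d * x) = d * φ x by
    obtain ⟨b, c, hb, hc, rfl⟩ := J.exists_coords a
    have hω : ∀ x, φ (algebraMap F K J.ω * x) = algebraMap F K J.ω * φ x := fun x => by
      rw [← Algebra.smul_def, map_smul, Algebra.smul_def]
    have e1 := hreal b hb 1
    have e2 := hreal c hc 1
    rw [mul_one] at e1 e2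
    rw [map_add, hω, e1, e2]
    ring
  choose t ht using h
  let mu := Algebra.lmul F K
  let d0 : {d : K // J.s d = d} → K := fun d => t d.1 d.2 - d.1 * t 1 (map_one _)
  have hk : ∀ d : {d : K // J.s d = d},
      φ * mu d.1 - mu d.1 * φ = mu (d0 d) := by
    intro d
    have h1 : φ * mu d.1 - mu d.1 * J.hadj φ = mu (t d.1 d.2) := by
      have := ht d.1 d.2
      rwa [J.hadj_mul, J.hadj_mu, d.2] at this
    have h2 : φ - J.hadj φ = mu (t 1 (map_one _)) := by
      have := ht 1 (map_one _)
      rwa [map_one, mul_one] at this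
    show _ = mu (t d.1 d.2 - d.1 * t 1 (map_one _))
    rw [map_sub, map_mul, ← h1, ← h2, mul_sub]
    abel
  intro d hd
  have hs : ∀ c e : {d : K // J.s d = d},
      d0 ⟨c.1 * e.1, by rw [map_mul, c.2, e.2]⟩ = d0 c * e.1 + c.1 * d0 e := by
    intro c e
    have h1 : (φ * mu (c.1 * e.1) - mu (c.1 * e.1) * φ) 1 =
        ((φ * mu c.1 - mu c.1 * φ) * mu e.1) 1 + (mu c.1 * (φ * mu e.1 - mu e.1 * φ)) 1 := by
      rw [← LinearMap.add_apply, map_mul]
      congr 1
      simp only [sub_mul, mul_sub, mul_assoc]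
      abel
    have h2 := hk ⟨c.1 * e.1, by rw [map_mul, c.2, e.2]⟩
    rw [h2, hk, hk] at h1
    simpa [mu] using h1
  have hpow : ∀ (c : {d : K // J.s d = d}) (n : ℕ),
      d0 ⟨c.1 ^ (n + 1), by rw [map_pow, c.2]⟩ = (n + 1 : K) * c.1 ^ n * d0 c := by
    intro c n
    induction n with
    | zero => simp
    | succ n ih =>
      have := hs ⟨c.1 ^ (n + 1), by rw [map_pow, c.2]⟩ c
      simp only [← pow_succ] at this
      rw [this, ih]
      push_cast
      ring
  have hd0 : d0 ⟨d, hd⟩ = 0 := by
    have h1 := hpow ⟨d, hd⟩ (Fintype.card K - 1)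
    have hc : Fintype.card K - 1 + 1 = Fintype.card K := Nat.sub_add_cancel Fintype.card_pos
    simp only [hc, FiniteField.pow_card] at h1
    have h2 : ((Fintype.card K - 1 : ℕ) + 1 : K) = 0 := by
      rw [← Nat.cast_add_one, hc, Nat.cast_card_eq_zero]
    rw [h2, zero_mul, zero_mul] at h1
    exact h1
  intro x
  have := LinearMap.congr_fun (hk ⟨d, hd⟩) x
  rw [hd0, map_zero, LinearMap.sub_apply, LinearMap.zero_apply, sub_eq_zero] at this
  simpa [mu] using this

namespace Setting

variable (S : Setting F K V)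

/-- A real element with vanishing trace against a given one. -/
theorem exists_real_trace_zero (S : Setting F K V) (w : K) :
    ∃ u, S.J.s u = u ∧ u ≠ 0 ∧ Algebra.trace F K (w * u) = 0 := by
  classical
  let R := {u : K // S.J.s u = u}
  have hK : Nat.card K ≤ Nat.card R ^ 2 := by
    rw [pow_two, ← Nat.card_prod]
    refine Nat.card_le_card_of_surjective (fun x : R × R =>
      x.1.1 + algebraMap F K S.J.ω * x.2.1) fun y => ?_
    obtain ⟨a, b, ha, hb, rfl⟩ := S.J.exists_coords y
    exact ⟨(⟨a, ha⟩, ⟨b, hb⟩), rfl⟩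
  have hF : Nat.card F < Nat.card R := by
    by_contra hle
    push Not at hle
    have h1 : Nat.card F ^ 3 ≤ Nat.card F ^ 2 := by
      calc Nat.card F ^ 3 ≤ Nat.card F ^ finrank F K :=
            Nat.pow_le_pow_right (Finite.one_lt_card (α := F)).le S.three_le_r
        _ = Nat.card K := (Module.natCard_eq_pow_finrank (K := F) (V := K)).symm
        _ ≤ _ := hK.trans (Nat.pow_le_pow_left hle 2)
    exact absurd ((Nat.pow_le_pow_iff_right Finite.one_lt_card).1 h1) (by norm_num)
  obtain ⟨a, b, hne, hab⟩ : ∃ a b : R, a ≠ b ∧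
      Algebra.trace F K (w * a.1) = Algebra.trace F K (w * b.1) := by
    by_contra h
    push Not at h
    have : Function.Injective fun a : R => Algebra.trace F K (w * a.1) := fun a b hab => by
      by_contra hne
      exact h a b hne hab
    exact absurd (Nat.card_le_card_of_injective _ this) (by omega)
  exact ⟨a.1 - b.1, by rw [map_sub, a.2, b.2], sub_ne_zero.2 fun h => hne (Subtype.ext h),
    by rw [mul_sub, map_sub, hab, sub_self]⟩

/-- A totally singular subspace of dimension at least the degree has a singular vector. -/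
theorem exists_singular_mem (S : Setting F K V) (L : Submodule F V)
    (hts : ∀ x ∈ L, ∀ y ∈ L, S.f x y = 0) (hd : finrank F K ≤ finrank F L) :
    ∃ x ∈ L, x ≠ 0 ∧ S.H x x = 0 := by
  classical
  haveI : FiniteDimensional F V := Module.Finite.of_finite
  haveI : FiniteDimensional F K := Module.Finite.of_finite
  let F0 : Subfield F := RingHom.eqLocusField S.J.σF (RingHom.id F)
  haveI : Fintype F0 := Fintype.ofFinite _
  obtain ⟨p, hp⟩ := CharP.exists F
  haveI : Fact p.Prime := ⟨CharP.char_is_prime F p⟩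
  haveI : CharP F0 p := (RingHom.charP_iff F0.subtype F0.subtype.injective p).2 inferInstance
  obtain ⟨c0, hc0, hc0F⟩ := S.exists_real_not_range
  let b := Module.finBasis F L
  set d := finrank F L
  let c : Fin d ⊕ Fin d → V := Sum.elim (fun i => (b i : V)) (fun i => S.J.ω • (b i : V))
  set ω' := S.J.ω / (S.J.ω - S.J.σF S.J.ω) with hω'
  let ℓ : F → F0 := fun u => ⟨ω' * u + S.J.σF (ω' * u), by
    show S.J.σF _ = _
    rw [map_add, S.J.σF_invol, add_comm]; rfl⟩
  have hℓadd : ∀ u v, ((ℓ (u + v) : F0) : F) = ℓ u + ℓ v := fun u v => by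
    simp [ℓ, mul_add, map_add]; ring
  have hℓmul : ∀ (a : F0) u, ((ℓ (a.1 * u) : F0) : F) = a.1 * ℓ u := fun a u => by
    have ha : S.J.σF a.1 = a.1 := a.2
    simp [ℓ, map_mul, ha]; ring
  have hℓid : ∀ u, S.J.σF u = u → ((ℓ u : F0) : F) = u := fun u hu => by
    have hω : ω' + S.J.σF ω' = 1 := by
      rw [hω', map_div₀, map_sub, S.J.σF_invol,
        show S.J.σF S.J.ω - S.J.ω = -(S.J.ω - S.J.σF S.J.ω) by ring, div_neg, ← sub_eq_add_neg,
        ← sub_div, div_self (sub_ne_zero.2 (Ne.symm S.J.move))]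
    show ω' * u + S.J.σF (ω' * u) = u
    rw [map_mul, hu, ← add_mul, hω, one_mul]
  let β : Fin (finrank F K - 1) → K := fun l => c0 ^ (l.1 + 1)
  let P : Fin (finrank F K - 1) → MvPolynomial (Fin d ⊕ Fin d) F0 := fun l =>
    ∑ i, ∑ j, MvPolynomial.C (ℓ (Algebra.trace F K (β l * S.H (c i) (c j)))) *
      MvPolynomial.X i * MvPolynomial.X j
  have hdeg : ∀ l, (P l).totalDegree ≤ 2 := fun l => by
    refine (MvPolynomial.totalDegree_finsetSum _ _).trans (Finset.sup_le fun i _ => ?_)
    refine (MvPolynomial.totalDegree_finsetSum _ _).trans (Finset.sup_le fun j _ => ?_)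
    refine (MvPolynomial.totalDegree_mul _ _).trans ?_
    refine (Nat.add_le_add (MvPolynomial.totalDegree_mul _ _) le_rfl).trans ?_
    simp
  have hlt : ∑ l, (P l).totalDegree < Fintype.card (Fin d ⊕ Fin d) := by
    refine (Finset.sum_le_card_nsmul _ _ 2 fun l _ => hdeg l).trans_lt ?_
    have := S.three_le_r
    rw [Finset.card_univ, Fintype.card_fin, Fintype.card_sum, Fintype.card_fin, smul_eq_mul]
    omega
  have hdvd := char_dvd_card_solutions_of_fintype_sum_lt p hlt
  have hzero : ∀ l, MvPolynomial.eval (0 : Fin d ⊕ Fin d → F0) (P l) = 0 := fun l => by simp [P]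
  obtain ⟨⟨v, hv⟩, hv0⟩ : ∃ v : {v : Fin d ⊕ Fin d → F0 // ∀ l, MvPolynomial.eval v (P l) = 0},
      v ≠ ⟨0, hzero⟩ := by
    have hdvd' : p ∣ Nat.card {v : Fin d ⊕ Fin d → F0 // ∀ l, MvPolynomial.eval v (P l) = 0} := by
      convert hdvd using 1
      rw [Nat.card_eq_fintype_card]
      convert rfl
    haveI : Nonempty {v : Fin d ⊕ Fin d → F0 // ∀ l, MvPolynomial.eval v (P l) = 0} := ⟨⟨0, hzero⟩⟩
    haveI : Nontrivial {v : Fin d ⊕ Fin d → F0 // ∀ l, MvPolynomial.eval v (P l) = 0} := by
      rw [← Finite.one_lt_card_iff_nontrivial]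
      have := Nat.le_of_dvd Nat.card_pos hdvd'
      have := (Fact.out : p.Prime).two_le
      omega
    exact exists_ne _
  set x : V := ∑ i, (v i : F) • c i with hx
  have hxL : x ∈ L := Submodule.sum_mem _ fun i _ => L.smul_mem _ (by
    rcases i with i | i
    · exact (b i).2
    · exact L.smul_mem _ (b i).2)
  refine ⟨x, hxL, fun hx0 => ?_, ?_⟩
  · apply hv0
    have h1 : ∑ i, ((v (Sum.inl i) : F) + (v (Sum.inr i) : F) * S.J.ω) • b i = 0 := by
      apply Subtype.ext
      rw [Submodule.coe_sum, Submodule.coe_zero, ← hx0, hx, Fintype.sum_sum_type,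
        ← Finset.sum_add_distrib]
      exact Finset.sum_congr rfl fun i _ => by simp [c, add_smul, mul_smul]
    refine Subtype.ext (funext fun i => ?_)
    have h2 : ∀ i, ((v (Sum.inl i) : F) + (v (Sum.inr i) : F) * S.J.ω) = 0 :=
      Fintype.linearIndependent_iff.1 b.linearIndependent _ h1
    have h3 : ∀ i, (v (Sum.inr i) : F) = 0 ∧ (v (Sum.inl i) : F) = 0 := fun i => by
      have e1 := h2 i
      have e2 := congrArg S.J.σF e1
      have hf : ∀ a : F0, S.J.σF a.1 = a.1 := fun a => a.2
      rw [map_add, map_mul, map_zero, hf, hf] at e2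
      have h4 : (v (Sum.inr i) : F) = 0 := (mul_eq_zero.1 (show (v (Sum.inr i) : F) *
          (S.J.ω - S.J.σF S.J.ω) = 0 by linear_combination e1 - e2)).resolve_right
        (sub_ne_zero.2 (Ne.symm S.J.move))
      exact ⟨h4, by rwa [h4, zero_mul, add_zero] at e1⟩
    rcases i with i | i
    · exact Subtype.ext (h3 i).2
    · exact Subtype.ext (h3 i).1
  · have hQ : ∀ l, Algebra.trace F K (β l * S.H x x) = 0 := by
      intro l
      have hreal : S.J.σF (Algebra.trace F K (β l * S.H x x)) =
          Algebra.trace F K (β l * S.H x x) := by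
        rw [← S.J.trace_s', map_mul, S.self_real, map_pow, hc0]
      rw [← hℓid _ hreal]
      have hexp : Algebra.trace F K (β l * S.H x x) =
          ∑ i, ∑ j, (v i * v j : F0).1 * Algebra.trace F K (β l * S.H (c i) (c j)) := by
        have hsl : ∀ (s : Finset (Fin d ⊕ Fin d)) (z : V),
            S.H (∑ i ∈ s, (v i : F) • c i) z = ∑ i ∈ s, algebraMap F K (v i : F) * S.H (c i) z := by
          intro s z
          let φ : V →+ K := AddMonoidHom.mk' (fun u => S.H u z) fun a b => S.add_left a b z
          show φ _ = _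
          rw [map_sum]
          refine Finset.sum_congr rfl fun i _ => ?_
          show S.H _ z = _
          rw [← algebraMap_smul K (v i : F), S.smul_left]
        have hsr : ∀ (u : V), S.H u (∑ j, (v j : F) • c j) =
            ∑ j, algebraMap F K (v j : F) * S.H u (c j) := by
          intro u
          rw [S.herm, hsl, map_sum]
          refine Finset.sum_congr rfl fun j _ => ?_
          have hf : S.J.σF (v j : F) = (v j : F) := (v j).2
          rw [map_mul, S.J.compat, hf, ← S.herm]
        rw [hx, hsl]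
        simp only [hsr, Finset.mul_sum, map_sum]
        refine Finset.sum_congr rfl fun i _ => Finset.sum_congr rfl fun j _ => ?_
        rw [show β l * (algebraMap F K (v i : F) * (algebraMap F K (v j : F) * S.H (c i) (c j))) =
          ((v i : F) * (v j : F)) • (β l * S.H (c i) (c j)) by
            rw [Algebra.smul_def, map_mul]; ring, map_smul, smul_eq_mul]
        rfl
      let Λ : F →+ F := AddMonoidHom.mk' (fun u => ((ℓ u : F0) : F)) hℓadd
      show Λ _ = 0
      rw [hexp]
      simp only [map_sum]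
      have h := congrArg F0.subtype (hv l)
      simp only [P, map_sum, map_mul, MvPolynomial.eval_C, MvPolynomial.eval_X, map_zero] at h
      rw [← h]
      refine Finset.sum_congr rfl fun i _ => Finset.sum_congr rfl fun j _ => ?_
      show ((ℓ ((v i * v j : F0).1 * _) : F0) : F) = _
      rw [hℓmul]
      show ((v i : F) * (v j : F)) * _ = _
      simp only [Subfield.coe_subtype]
      ring
    have htop : Submodule.span F (Set.range fun i : Fin (finrank F K) => c0 ^ (i : ℕ)) = ⊤ := by
      have hint : IsIntegral F c0 := .of_finite F c0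
      have hdeg : (minpoly F c0).natDegree = finrank F K := by
        rcases S.prime.eq_one_or_self_of_dvd _ (minpoly.degree_dvd hint) with h | h
        · exact absurd (RingHom.mem_range.1 ((minpoly.natDegree_eq_one_iff).1 h)) hc0F
        · exact h
      have hli := linearIndependent_pow c0 (K := F)
      have := hli.span_eq_top_of_card_eq_finrank' (by rw [Fintype.card_fin, hdeg])
      rw [← this]
      congr 1
      ext z
      simp only [Set.mem_range]
      exact ⟨fun ⟨i, hi⟩ => ⟨Fin.cast hdeg.symm i, hi⟩, fun ⟨i, hi⟩ => ⟨Fin.cast hdeg i, hi⟩⟩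
    refine trace_ext (F := F) fun a => ?_
    rw [mul_zero, map_zero]
    have ha : a ∈ Submodule.span F (Set.range fun i : Fin (finrank F K) => c0 ^ (i : ℕ)) :=
      htop ▸ Submodule.mem_top
    induction ha using Submodule.span_induction with
    | mem z hz =>
      obtain ⟨⟨i, hi⟩, rfl⟩ := hz
      rcases i with _ | i
      · simpa [f] using hts x hxL x hxL
      · exact hQ ⟨i, by omega⟩
    | zero => simp
    | add u w _ _ hu hw => rw [add_mul, map_add, hu, hw, add_zero]
    | smul s u _ hu => rw [smul_mul_assoc, map_smul, hu, smul_zero]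

theorem exists_singular (S : Setting F K V) : ∃ e : V, e ≠ 0 ∧ S.H e e = 0 := by
  haveI := S.nontrivial
  haveI : FiniteDimensional K V := Module.Finite.of_finite
  obtain ⟨x, hx⟩ := exists_ne (0 : V)
  by_cases hxx : S.H x x = 0
  · exact ⟨x, hx, hxx⟩
  obtain ⟨y, hy, hy0⟩ := (Submodule.ne_bot_iff _).1 (show S.perp x ≠ ⊥ by
    intro h
    have h1 := S.finrank_perp hx
    rw [h, finrank_bot] at h1
    have := S.two_le
    omega)
  by_cases hyy : S.H y y = 0
  · exact ⟨y, hy0, hyy⟩
  obtain ⟨a, ha⟩ := S.J.exists_norm (h := -S.H x x / S.H y y) (by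
    rw [map_div₀, map_neg, S.self_real, S.self_real])
  refine ⟨x + a • y, fun h => hxx ?_, ?_⟩
  · have h1 := S.zero_left x
    rwa [← h, S.add_left, S.smul_left, S.mem_perp.1 hy, mul_zero, add_zero] at h1
  · rw [S.add_left, S.add_right, S.add_right, S.smul_left, S.smul_left, S.smul_right, S.smul_right,
      S.mem_perp.1 hy, S.orth_symm (S.mem_perp.1 hy),
      show a * (S.J.s a * S.H y y) = -S.H x x by rw [← mul_assoc, ha, div_mul_cancel₀ _ hyy]]
    ring

/-- The unipotent element `z ↦ z + H z e • y - H z y • e + t H z e • e`. -/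
noncomputable def radLin (e y : V) (t : K) : V →ₗ[K] V where
  toFun z := z + S.H z e • y - S.H z y • e + (t * S.H z e) • e
  map_add' a b := by rw [S.add_left, S.add_left, add_smul, add_smul, mul_add, add_smul]; abel
  map_smul' c a := by
    rw [S.smul_left, S.smul_left, RingHom.id_apply, smul_add, smul_sub, smul_add, ← mul_smul,
      ← mul_smul, ← mul_smul, mul_left_comm]

theorem radLin_mul {e y y' : V} (he : S.H e e = 0) (hy : S.H y e = 0) (hy' : S.H y' e = 0)
    (t t' : K) (z : V) :
    S.radLin e y t (S.radLin e y' t' z) = S.radLin e (y + y') (t + t' - S.H y' y) z := by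
  show (z + S.H z e • y' - S.H z y' • e + (t' * S.H z e) • e) + _ - _ + _ = _
  simp only [radLin, LinearMap.coe_mk, AddHom.coe_mk, S.add_left, S.sub_left, S.smul_left, he, hy',
    S.orth_symm hy, mul_zero, sub_zero, add_zero, S.add_right]
  module

/-- The same, as an automorphism. -/
theorem exists_rad {e y : V} (he : S.H e e = 0) (hy : S.H y e = 0) {t : K}
    (ht : t + S.J.s t = -S.H y y) :
    ∃ g ∈ S.M, ∀ z, g z = z + S.H z e • y - S.H z y • e + (t * S.H z e) • e := by
  have hinv : ∀ z, S.radLin e (-y) (S.J.s t) (S.radLin e y t z) = z ∧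
      S.radLin e y t (S.radLin e (-y) (S.J.s t) z) = z := by
    intro z
    have hny : S.H (-y) e = 0 := (S.perp e).neg_mem hy
    have h1 : S.H y (-y) = -S.H y y := by rw [← zero_sub, S.sub_right, S.zero_right, zero_sub]
    have h2 : S.H (-y) y = -S.H y y := by rw [← zero_sub, S.sub_left, S.zero_left, zero_sub]
    rw [S.radLin_mul he hny hy, S.radLin_mul he hy hny, h1, h2, neg_add_cancel, add_neg_cancel,
      show S.J.s t + t - -S.H y y = 0 by linear_combination ht,
      show t + S.J.s t - -S.H y y = 0 by linear_combination ht]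
    simp [radLin, S.zero_right]
  let g : V ≃ₗ[F] V :=
    { toFun := S.radLin e y t
      invFun := S.radLin e (-y) (S.J.s t)
      map_add' := (S.radLin e y t).map_add
      map_smul' := ((S.radLin e y t).restrictScalars F).map_smul
      left_inv := fun z => (hinv z).1
      right_inv := fun z => (hinv z).2 }
  have hg : ∀ z, g z = S.radLin e y t z := fun z => rfl
  refine ⟨g, S.lin_mem g (fun c z => by rw [hg, hg, map_smul]) (fun z w => ?_) ?_, fun z => rfl⟩
  · congr 1
    simp only [hg, radLin, LinearMap.coe_mk, AddHom.coe_mk, S.add_left, S.sub_left, S.add_right,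
      S.sub_right, S.smul_left, S.smul_right, he, hy, S.orth_symm hy, mul_zero, add_zero, sub_zero,
      map_mul]
    rw [← S.herm w e, ← S.herm w y]
    linear_combination (S.H z e * S.H e w) * ht
  · have hpow : ∀ n : ℕ, ∃ t', ∀ z, (g ^ n) z = S.radLin e (n • y) t' z := by
      intro n
      induction n with
      | zero => exact ⟨0, fun z => by simp [radLin, S.zero_right]⟩
      | succ n ih =>
        obtain ⟨t', ht'⟩ := ih
        refine ⟨t + t' - S.H (n • y) y, fun z => ?_⟩
        rw [pow_succ']
        show g ((g ^ n) z) = _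
        rw [ht', hg, S.radLin_mul he hy ((S.perp e).nsmul_mem hy n), succ_nsmul']
    obtain ⟨p, hp⟩ := CharP.exists F
    haveI : Fact p.Prime := ⟨CharP.char_is_prime F p⟩
    obtain ⟨t', ht'⟩ := hpow p
    rw [← Nat.cast_smul_eq_nsmul F p y, CharP.cast_eq_zero, zero_smul] at ht'
    have hpow' : ∀ n : ℕ, ∀ z, ((g ^ p) ^ n) z = z + (n • t' * S.H z e) • e := by
      intro n
      induction n with
      | zero => intro z; simp
      | succ n ih =>
        intro z
        rw [pow_succ']
        show (g ^ p) (((g ^ p) ^ n) z) = _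
        rw [ih, ht']
        simp only [radLin, LinearMap.coe_mk, AddHom.coe_mk, S.add_left, S.smul_left, S.zero_right,
          he, mul_zero, zero_mul, add_zero, zero_smul, smul_zero, sub_zero, succ_nsmul, add_mul, add_smul]
        abel
    refine det_eq_one_of_pow (p := p) 2 (LinearEquiv.ext fun z => ?_)
    rw [pow_two, pow_mul, hpow', ← Nat.cast_smul_eq_nsmul F p t', CharP.cast_eq_zero, zero_smul,
      zero_mul, zero_smul, add_zero]
    rfl

/-- Fixed vectors of a semilinear map with non-trivial automorphism are independent. -/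
theorem fixed_indep (hr : (finrank F K).Prime) (P : Submodule K V) (ψ : V →ₗ[F] V)
    {ν : K ≃ₐ[F] K} (hψ : ∀ (c : K), ∀ y ∈ P, ψ (c • y) = ν c • ψ y) (hν : ν ≠ 1)
    {ι : Type*} [Fintype ι] {v : ι → V} (hvP : ∀ i, v i ∈ P) (hv : ∀ i, ψ (v i) = v i)
    (hli : LinearIndependent F v) : LinearIndependent K v := by
  classical
  rw [Fintype.linearIndependent_iff]
  suffices h : ∀ (n : ℕ) (c : ι → K), (Finset.univ.filter fun i => c i ≠ 0).card ≤ n →
      ∑ i, c i • v i = 0 → ∀ i, c i = 0 from fun c hc => h _ c le_rfl hc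
  intro n
  induction n with
  | zero =>
    intro c hn _ i
    by_contra hi
    exact Finset.notMem_empty i ((Finset.card_eq_zero.1 (Nat.le_zero.1 hn)) ▸
      Finset.mem_filter.2 ⟨Finset.mem_univ i, hi⟩)
  | succ n ih =>
    intro c hn hsum i
    by_contra hi
    let c' : ι → K := fun j => (c i)⁻¹ * c j
    have hc'i : c' i = 1 := inv_mul_cancel₀ hi
    have hsum' : ∑ j, c' j • v j = 0 := by
      simp only [c', mul_smul, ← Finset.smul_sum, hsum, smul_zero]
    have hd : ∀ j, ν (c' j) - c' j = 0 := by
      refine ih (fun j => ν (c' j) - c' j) ?_ ?_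
      · refine Nat.le_of_lt_succ (lt_of_lt_of_le (Finset.card_lt_card ?_) hn)
        refine (Finset.ssubset_iff_of_subset ?_).2
          ⟨i, Finset.mem_filter.2 ⟨Finset.mem_univ i, hi⟩, ?_⟩
        · intro j hj
          refine Finset.mem_filter.2 ⟨Finset.mem_univ j, fun h0 => (Finset.mem_filter.1 hj).2 ?_⟩
          simp [c', h0]
        · intro hmem
          apply (Finset.mem_filter.1 hmem).2
          show ν (c' i) - c' i = 0
          rw [hc'i, map_one, sub_self]
      · have h1 := congrArg ψ hsum'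
        rw [map_sum, map_zero] at h1
        have h2 : ∀ j, ψ (c' j • v j) = ν (c' j) • v j := fun j => by rw [hψ _ _ (hvP j), hv j]
        simp only [h2] at h1
        simp only [sub_smul, Finset.sum_sub_distrib, h1, hsum', sub_zero]
    have hF : ∀ j, ∃ t : F, algebraMap F K t = c' j := fun j =>
      mem_range_of_fixed hr hν (sub_eq_zero.1 (hd j))
    choose t ht using hF
    have h2 := Fintype.linearIndependent_iff.1 hli t (by
      rw [← hsum']; exact Finset.sum_congr rfl fun j _ => by rw [← ht j, algebraMap_smul]) i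
    rw [← ht i, h2, map_zero] at hc'i
    exact zero_ne_one hc'i

/-- The image of the orthogonal of `e`. -/
noncomputable def moved (g : V ≃ₗ[F] V) (e : V) : Submodule F V :=
  ((S.perp e).restrictScalars F).map (g : V →ₗ[F] V)

theorem mem_moved {g : V ≃ₗ[F] V} {e x : V} : x ∈ S.moved g e ↔ g⁻¹ x ∈ S.perp e := by
  constructor
  · rintro ⟨y, hy, rfl⟩
    show g⁻¹ (g y) ∈ S.perp e
    rwa [inv_apply_self]
  · exact fun h => ⟨g⁻¹ x, h, apply_inv_self' g x⟩

theorem finrank_moved {g : V ≃ₗ[F] V} {e : V} (he : e ≠ 0) :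
    finrank F (S.moved g e) + finrank F K = finrank F K * finrank K V := by
  rw [moved, (LinearEquiv.submoduleMap g ((S.perp e).restrictScalars F)).symm.finrank_eq]
  show finrank F (S.perp e) + _ = _
  rw [← Module.finrank_mul_finrank F K (S.perp e), ← S.finrank_perp he, mul_add, mul_one]

/-- All parameters are multiplications. -/
def AllScalar : Prop :=
  ∀ (e : V) (he : S.H e e = 0), e ≠ 0 → ∀ T ∈ S.params he, ∃ t, T = Algebra.lmul F K t

/-- An element between singular lines is semilinear there. -/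
theorem aut_of_line (hall : S.AllScalar) {g : V ≃ₗ[F] V} (hg : g ∈ S.M) {e e' : V} (he0 : e ≠ 0)
    (he'0 : e' ≠ 0) (he : S.H e e = 0) (he' : S.H e' e' = 0) (hge : g e = e')
    (h : ∀ c : K, g (c • e) ∈ Submodule.span K {e'}) :
    ∃ ν : K ≃ₐ[F] K, ∀ c, g (c • e) = ν c • e' := by
  obtain ⟨P, hP⟩ := exists_lineMap (g := g) he0 he'0 h
  have hPS : PSemi P := by
    by_contra hns
    have htrans : ∀ T ∈ S.params he,
        P.toLinearMap * T * S.J.hadj P.toLinearMap ∈ S.params he' := fun T hT =>
      S.params_conj hg he he' hP hT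
    -- bring the line back
    obtain ⟨k, hk, hkl, μ, hμ, hke⟩ := S.exists_move he'0 he0 he' he
    let Q : K ≃ₗ[F] K :=
      { toFun := fun a => P a * μ
        map_add' := fun a b => by rw [map_add, add_mul]
        map_smul' := fun t a => by rw [map_smul, smul_mul_assoc]; rfl
        invFun := fun a => P.symm (a * μ⁻¹)
        left_inv := fun a => by simp [hμ]
        right_inv := fun a => by simp [hμ] }
    have hQ : ∀ c, (k * g) (c • e) = Q c • e := fun c => by
      show k (g (c • e)) = (P c * μ) • e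
      rw [hP, hkl, hke, mul_smul]
    have hns' : ∃ c : K, ∀ d : K,
        (Q.toLinearMap * Algebra.lmul F K c : Module.End F K) ≠
          Algebra.lmul F K d * Q.toLinearMap := by
      by_contra hcon
      push Not at hcon
      apply hns
      intro c
      obtain ⟨d, hd⟩ := hcon c
      refine ⟨d, LinearMap.ext fun x => ?_⟩
      have h1 : P (c * x) * μ = d * (P x * μ) := LinearMap.congr_fun hd x
      exact mul_right_cancel₀ hμ (show P (c * x) * μ = d * P x * μ by rw [h1, mul_assoc])
    have hpi := (S.params_family he0 he).piMap_of_congr S.prime S.odd Q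
      (fun T hT => S.params_conj (S.M.mul_mem hk hg) he he hQ hT) hns'
    obtain ⟨t, ht⟩ := hall e he he0 _ hpi
    exact piMap_ne_mu S.prime.two_le t ht
  obtain ⟨ν, hν⟩ := hPS.exists_aut
  have hP1 : P 1 = 1 := smul_left_injective K he'0 (by
    show P 1 • e' = (1 : K) • e'
    rw [← hP, one_smul, one_smul, hge])
  refine ⟨ν, fun c => ?_⟩
  have h1 := hν c 1
  rw [mul_one, hP1, mul_one] at h1
  rw [hP, h1]

/-- A fixing group has no room outside the semilinear maps. -/
theorem ti_contra (hall : S.AllScalar) {v : V} (hv0 : v ≠ 0) (hv : S.H v v = 0) {g : V ≃ₗ[F] V}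
    (hg : g ∈ S.M) {x : V} (hx0 : x ≠ 0) (hx : S.H x x = 0) (hxA : x ∈ S.moved g v) {c0 : K}
    (hcx : c0 • x ∉ S.moved g v)
    (hone : (∃ a : K, a ∉ Set.range (algebraMap F K) ∧ a • x ∈ S.moved g v) ∨
      4 ≤ finrank K V) : False := by
  classical
  haveI := S.nontrivial
  haveI : FiniteDimensional F V := Module.Finite.of_finite
  haveI : FiniteDimensional K V := Module.Finite.of_finite
  obtain ⟨x1, hx1, hx1', hx11⟩ := S.exists_sing_partner hx0 hx
  set A := S.moved g v with hA
  set D : Submodule F V := (S.perp x).restrictScalars F ⊓ A with hD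
  have hxD : x ∈ D := ⟨hx, hxA⟩
  have hdimA := S.finrank_moved (g := g) hv0
  rw [← hA] at hdimA
  have hdimP : finrank F ((S.perp x).restrictScalars F) + finrank F K =
      finrank F K * finrank K V := by
    show finrank F (S.perp x) + _ = _
    rw [← Module.finrank_mul_finrank F K (S.perp x), ← S.finrank_perp hx0, mul_add, mul_one]
  have hdimD : finrank F K * finrank K V ≤ finrank F D + 2 * finrank F K := by
    have h2 := Submodule.finrank_sup_add_finrank_inf_eq ((S.perp x).restrictScalars F) A
    have h3 : finrank F ↥((S.perp x).restrictScalars F ⊔ A) ≤ finrank F K * finrank K V := by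
      rw [Module.finrank_mul_finrank F K]; exact Submodule.finrank_le _
    rw [← hD] at h2
    omega
  have hspan : Submodule.span K (D : Set V) = S.perp x := by
    have hle : Submodule.span K (D : Set V) ≤ S.perp x := Submodule.span_le.2 fun z hz => hz.1
    refine Submodule.eq_of_le_of_finrank_le hle ?_
    have hlt : D < (Submodule.span K (D : Set V)).restrictScalars F := by
      refine lt_of_le_of_ne (fun z hz => Submodule.subset_span hz) fun heq => hcx ?_
      have h2 : c0 • x ∈ D := heq ▸ Submodule.smul_mem _ _ (Submodule.subset_span hxD)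
      exact h2.2
    have h1 := Submodule.finrank_lt_finrank_of_lt hlt
    have h4 : finrank F ((Submodule.span K (D : Set V)).restrictScalars F) =
        finrank F K * finrank K (Submodule.span K (D : Set V)) := by
      rw [Module.finrank_mul_finrank F K]; rfl
    have h5 := S.finrank_perp hx0
    by_contra hlt'
    push Not at hlt'
    have h6 : finrank F K * (finrank K (Submodule.span K (D : Set V)) + 2) ≤
        finrank F K * finrank K V := Nat.mul_le_mul_left _ (by omega)
    rw [mul_add] at h6
    omega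
  obtain ⟨y1, hy1, hy1A⟩ : ∃ y ∈ S.perp x, y ∉ A := ⟨c0 • x, Submodule.smul_mem _ _ hx, hcx⟩
  refine S.stable_contra hx0 hx (fixG S.M (D : Set V)) (fun h hh => hh.1) ?_ ?_
    (k := g * S.root v (Algebra.lmul F K 1) * g⁻¹) ?_ ?_
  · rintro h ⟨T, hT, rfl⟩
    exact ⟨hT.2, fun z hz => S.root_fix hx T hz.1⟩
  swap
  · refine ⟨S.M.mul_mem (S.M.mul_mem hg (S.root_mu_mem hv (map_one _))) (S.M.inv_mem hg),
      fun z hz => ?_⟩
    show g (S.root v _ (g⁻¹ z)) = z
    rw [S.root_fix hv _ (S.mem_moved.1 hz.2), apply_inv_self']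
  swap
  · refine ⟨y1, hy1, fun h => hy1A (S.mem_moved.2 ?_)⟩
    have h1 : g (S.root v (Algebra.lmul F K 1) (g⁻¹ y1)) = g (g⁻¹ y1) := by
      rw [apply_inv_self']; exact h
    have h2 := g.injective h1
    rw [S.root_apply hv, add_eq_left, smul_eq_zero] at h2
    have h3 : S.J.eps * ((1 : K) * S.H (g⁻¹ y1) v) = 0 := h2.resolve_right hv0
    rw [one_mul] at h3
    exact (mul_eq_zero.1 h3).resolve_left S.J.eps_ne
  intro h hh hline
  have hhx : h x = x := hh.2 x hxD
  obtain ⟨ν, hν⟩ := S.aut_of_line hall hh.1 hx0 hx0 hx hx hhx hline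
  have hperp : ∀ z ∈ S.perp x, h z ∈ S.perp x := fun z hz => S.eq_zero_of_trace fun c => by
    obtain ⟨b, rfl⟩ := (S.J.s.injective.bijective_of_finite).2 c
    obtain ⟨b, rfl⟩ := ν.surjective b
    rw [f, S.smul_left, ← S.smul_right]
    show S.f (h z) (ν b • x) = 0
    rw [← hν, S.f_iso hh.1, f, S.smul_right, S.mem_perp.1 hz, mul_zero, map_zero]
  let P : K ≃ₗ[F] K := ν.toLinearEquiv
  have hP : ∀ c, h (c • x) = P c • x := hν
  have hinvx : ∀ c, h⁻¹ (c • x) = ν.symm c • x := fun c => by
    apply h.injective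
    rw [apply_inv_self', hν, AlgEquiv.apply_symm_apply]
  -- the conjugates of unipotent elements
  have hconj : ∀ y ∈ S.perp x, ∀ t : K, t + S.J.s t = -S.H y y → ∃ k ∈ S.M, ∀ z,
      k z = z + h (ν.symm (S.H z x) • y) - ν (S.H (h⁻¹ z) y) • x + (ν t * S.H z x) • x := by
    intro y hy t ht
    obtain ⟨r, hr, hrz⟩ := S.exists_rad hx hy ht
    refine ⟨h * r * h⁻¹, S.M.mul_mem (S.M.mul_mem hh.1 hr) (S.M.inv_mem hh.1), fun z => ?_⟩
    show h (r (h⁻¹ z)) = _
    have hHi : S.H (h⁻¹ z) x = ν.symm (S.H z x) := by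
      rw [S.H_inv hh.1 hP]
      show S.J.hadj ν.toLinearMap _ = _
      rw [S.J.hadj_aut]; rfl
    rw [hrz, map_add, map_sub, map_add, apply_inv_self', hν, hν, map_mul, hHi,
      AlgEquiv.apply_symm_apply]
  -- scalar root elements
  have hroot : ∀ (Φ : Module.End F K), S.root x Φ ∈ S.M → ∃ t, Φ = Algebra.lmul F K t := by
    intro Φ hΦ
    obtain ⟨T, hT, hTe⟩ := S.exists_root_of_fix hΦ hx0 hx fun y hy => S.root_fix hx Φ hy
    obtain ⟨t, rfl⟩ := hall x hx hx0 T hT
    exact ⟨t, S.root_injective hx hx0 hTe⟩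
  -- first stage
  have hmod : ∀ y ∈ S.perp x, ∀ x' ∈ S.perp x, ∀ a : K,
      S.H (h (a • y)) x' = ν a * S.H (h y) x' := by
    have hsym : ∀ y ∈ S.perp x, ∀ x' ∈ S.perp x, ∀ φ : Module.End F K,
        (∀ a, φ a = S.H (h (ν.symm a • y)) x') →
          ∃ t, φ - S.J.hadj φ = Algebra.lmul F K t := by
      intro y hy x' hx' φ hφ
      obtain ⟨t, ht⟩ := S.J.exists_trace (S.self_real y)
      obtain ⟨k, hk, hkz⟩ := hconj y hy t ht
      obtain ⟨t', ht'⟩ := S.J.exists_trace (S.self_real x')
      obtain ⟨r, hr, hrz⟩ := S.exists_rad hx hx' ht'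
      have hxx' : S.H x x' = 0 := S.orth_symm hx'
      have hxy : S.H x y = 0 := S.orth_symm hy
      have hCy : ∀ b, S.H (h (b • y)) x = 0 := fun b => hperp _ (Submodule.smul_mem _ _ hy)
      let ψ : Module.End F K :=
        { toFun := fun a => -ν (S.H (h⁻¹ (a • x')) y)
          map_add' := fun a b => by rw [add_smul, map_add, S.add_left, map_add, neg_add]
          map_smul' := fun s a => by
            rw [smul_assoc, map_smul, ← algebraMap_smul K s, S.smul_left, map_mul, AlgEquiv.commutes,
              RingHom.id_apply, Algebra.smul_def, mul_neg] }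
      have hψ : S.J.hadj ψ = -φ := S.J.hadj_eq fun a b => by
        show Algebra.trace F K (-ν (S.H (h⁻¹ (a • x')) y) * S.J.s b) =
          Algebra.trace F K (a * S.J.s (-φ b))
        obtain ⟨c, rfl⟩ := ν.surjective b
        rw [hφ, AlgEquiv.symm_apply_apply, S.J.s_aut, neg_mul, ← map_mul, map_neg, map_neg, mul_neg,
          map_neg, neg_inj, Algebra.trace_eq_of_algEquiv, ← S.herm, ← S.smul_left]
        rw [mul_comm, ← S.smul_right]
        exact S.f_inv hh.1 _ _
      have hdiff : ∀ z, k (r z) = S.root x ((S.J.eF⁻¹) • (φ + ψ)) (r (k z)) := by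
        intro z
        rw [S.root_apply hx]
        have hzx : S.H (r (k z)) x = S.H z x := by
          simp only [hrz, hkz, S.add_left, S.sub_left, S.smul_left, hx, hCy, S.mem_perp.1 hx',
            mul_zero, add_zero, sub_zero]
        rw [hzx, LinearMap.smul_apply, LinearMap.add_apply, Algebra.smul_def, map_inv₀,
          show S.J.eps * ((algebraMap F K S.J.eF)⁻¹ * (φ (S.H z x) + ψ (S.H z x))) =
            φ (S.H z x) + ψ (S.H z x) from mul_inv_cancel_left₀ S.J.eps_ne _]
        show _ = _ + (φ (S.H z x) + -ν (S.H (h⁻¹ (S.H z x • x')) y)) • x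
        rw [hφ]
        simp only [hrz, hkz, map_add, map_sub, hinvx, S.add_left, S.sub_left, S.smul_left, hx, hCy,
          S.mem_perp.1 hx', hxx', hxy, mul_zero, add_zero, sub_zero, map_zero]
        module
      obtain ⟨u, hu⟩ := hroot ((S.J.eF⁻¹) • (φ + ψ)) (by
        have : S.root x ((S.J.eF⁻¹) • (φ + ψ)) = k * r * k⁻¹ * r⁻¹ := by
          rw [eq_mul_inv_iff_mul_eq, eq_mul_inv_iff_mul_eq]
          exact LinearEquiv.ext fun z => (hdiff z).symm
        rw [this]
        exact S.M.mul_mem (S.M.mul_mem (S.M.mul_mem hk hr) (S.M.inv_mem hk)) (S.M.inv_mem hr))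
      refine ⟨algebraMap F K S.J.eF * u, ?_⟩
      have h1 : φ + ψ = S.J.eF • Algebra.lmul F K u := by
        rw [← hu, smul_smul, mul_inv_cancel₀ S.J.eF_ne, one_smul]
      have h2 : S.J.hadj φ = -ψ := by
        have h3 : S.J.hadj (S.J.hadj ψ) = S.J.hadj (-φ) := by rw [hψ]
        rw [S.J.hadj_hadj] at h3
        have h4 : S.J.hadj (-φ) + S.J.hadj φ = 0 := by
          rw [← S.J.hadj_add, neg_add_cancel]
          have := S.J.hadj_mu (0 : K); rwa [map_zero, map_zero, map_zero] at this
        rw [← h3] at h4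
        exact eq_neg_of_add_eq_zero_right h4
      rw [h2, sub_neg_eq_add, h1, map_mul, AlgHom.commutes, ← Algebra.smul_def]
    intro y hy x' hx' a
    let φ : Module.End F K :=
      { toFun := fun b => S.H (h (ν.symm b • y)) x'
        map_add' := fun b c => by rw [map_add, add_smul, map_add, S.add_left]
        map_smul' := fun s b => by
          rw [map_smul ν.symm, smul_assoc, map_smul h, ← algebraMap_smul K s, S.smul_left,
            RingHom.id_apply, Algebra.smul_def] }
    have h1 := S.J.comm_of_skew φ (fun d hd => hsym (ν.symm d • y) (Submodule.smul_mem _ _ hy) x' hx'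
      _ fun b => by
        show S.H (h (ν.symm (d * b) • y)) x' = _
        rw [map_mul, mul_comm, mul_smul]) (ν a)
    show S.H (h (a • y)) x' = ν a * S.H (h y) x'
    have h2 : S.H (h (ν.symm (ν a) • y)) x' = ν a * S.H (h (ν.symm 1 • y)) x' := h1
    rwa [AlgEquiv.symm_apply_apply, map_one, one_smul] at h2
  -- the map induced modulo the line
  let ψ0 : V →ₗ[F] V :=
    { toFun := fun z => h z - S.H (h z) x1 • x
      map_add' := fun a b => by rw [map_add, S.add_left, add_smul]; abel
      map_smul' := fun s a => by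
        rw [map_smul, ← algebraMap_smul K s (h a), S.smul_left, RingHom.id_apply, smul_sub,
          ← algebraMap_smul K s (h a), mul_smul, algebraMap_smul, algebraMap_smul] }
  have hψsemi : ∀ (c : K), ∀ y ∈ S.perp x, ψ0 (c • y) = ν c • ψ0 y := by
    intro c y hy
    show h (c • y) - S.H (h (c • y)) x1 • x = ν c • (h y - S.H (h y) x1 • x)
    have h1 : h (c • y) - ν c • h y = S.H (h (c • y) - ν c • h y) x1 • x := by
      refine S.eq_smul_of_perp hx1 fun z hz => ?_
      rw [f, S.sub_left, S.smul_left, hmod y hy z hz, sub_self, map_zero]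
    rw [S.sub_left, S.smul_left, sub_smul, mul_smul] at h1
    rw [smul_sub, sub_eq_sub_iff_sub_eq_sub]
    exact h1
  have hν1 : ν = 1 := by
    by_contra hne
    by_cases hsec : ∃ a : K, a ∉ Set.range (algebraMap F K) ∧ a • x ∈ A
    · obtain ⟨a, haF, hax⟩ := hsec
      refine haF (mem_range_of_fixed S.prime hne (smul_left_injective K hx0 ?_))
      show ν a • x = a • x
      rw [← hν]
      exact hh.2 _ ⟨(S.perp x).smul_mem _ hx, hax⟩
    have hm := hone.resolve_left hsec
    push Not at hsec
    let π : D →ₗ[F] V :=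
      { toFun := fun z => (z : V) - S.H (z : V) x1 • x
        map_add' := fun a b => by rw [Submodule.coe_add, S.add_left, add_smul]; abel
        map_smul' := fun s a => by
          rw [Submodule.coe_smul, ← algebraMap_smul K s (a : V), S.smul_left, RingHom.id_apply,
            smul_sub, ← algebraMap_smul K s (a : V), mul_smul, algebraMap_smul, algebraMap_smul] }
    have hker : finrank F (LinearMap.ker π) ≤ 1 := by
      refine finrank_le_one (⟨⟨x, hxD⟩, ?_⟩ : LinearMap.ker π) fun ⟨⟨z, hz⟩, hzk⟩ => ?_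
      · rw [LinearMap.mem_ker]
        show x - S.H x x1 • x = 0
        rw [hx1', one_smul, sub_self]
      · have h1 : z = S.H z x1 • x := sub_eq_zero.1 hzk
        obtain ⟨s, hs⟩ : S.H z x1 ∈ Set.range (algebraMap F K) := by
          by_contra hns
          exact hsec _ hns (by rw [← h1]; exact hz.2)
        refine ⟨s, Subtype.ext (Subtype.ext ?_)⟩
        show s • x = z
        rw [← algebraMap_smul K s x, hs, ← h1]
    have hran := LinearMap.finrank_range_add_finrank_ker π
    let bb := Module.finBasis F (LinearMap.range π)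
    have hmem : ∀ i, (bb i : V) ∈ S.perp x ∧ ψ0 (bb i : V) = (bb i : V) := fun i => by
      obtain ⟨⟨z, hz⟩, hzi⟩ := (bb i).2
      rw [← hzi]
      refine ⟨(S.perp x).sub_mem hz.1 (Submodule.smul_mem _ _ hx), ?_⟩
      show h (z - S.H z x1 • x) - S.H (h (z - S.H z x1 • x)) x1 • x = z - S.H z x1 • x
      rw [map_sub, hh.2 z hz, hν, S.sub_left, S.smul_left, hx1', mul_one, sub_smul]
      abel
    have hK := fixed_indep S.prime (S.perp x) ψ0 hψsemi hne (fun i => (hmem i).1)
      (fun i => (hmem i).2) (bb.linearIndependent.map' _ (Submodule.ker_subtype _))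
    have hK' : LinearIndependent K (fun i => (⟨(bb i : V), (hmem i).1⟩ : S.perp x)) :=
      LinearIndependent.of_comp (S.perp x).subtype hK
    have h7 := hK'.fintype_card_le_finrank
    rw [Fintype.card_fin] at h7
    have h5 := S.finrank_perp hx0
    have h8 := S.three_le_r
    have h9 : 3 * finrank K V ≤ finrank F K * finrank K V := Nat.mul_le_mul_right _ h8
    have h10 : finrank F K * 4 ≤ finrank F K * finrank K V := Nat.mul_le_mul_left _ hm
    obtain ⟨j, hj⟩ : ∃ j, finrank K V = 4 + j := ⟨finrank K V - 4, by omega⟩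
    rw [hj, mul_add] at hdimD
    have h11 : 3 * j ≤ finrank F K * j := Nat.mul_le_mul_right _ h8
    omega
  -- identity modulo the line
  have hquot : ∀ y ∈ S.perp x, h y = y + S.H (h y - y) x1 • x := by
    intro y hy
    rw [← hspan] at hy
    have hψ1 : ∀ z ∈ Submodule.span K (D : Set V), ψ0 z = z - S.H z x1 • x := by
      intro z hz
      induction hz using Submodule.span_induction with
      | mem z hz => show h z - S.H (h z) x1 • x = _; rw [hh.2 z hz]
      | zero => rw [map_zero, S.zero_left, zero_smul, sub_zero]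
      | add a b _ _ ha hb => rw [map_add, ha, hb, S.add_left, add_smul]; abel
      | smul c a ha' ha =>
        rw [hψsemi c a (hspan ▸ ha'), ha, hν1, AlgEquiv.one_apply, S.smul_left, smul_sub, mul_smul]
    have h1 : h y - S.H (h y) x1 • x = y - S.H y x1 • x := hψ1 y hy
    rw [S.sub_left, sub_smul]
    linear_combination (norm := module) h1
  have hlin : ∀ y ∈ S.perp x, ∀ a : K,
      S.H (h (a • y) - a • y) x1 = a * S.H (h y - y) x1 := by
    have hsym : ∀ y ∈ S.perp x, ∀ φ : Module.End F K,
        (∀ a, φ a = S.H (h (a • y) - a • y) x1) → ∃ t, φ - S.J.hadj φ = Algebra.lmul F K t := by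
      intro y hy φ hφ
      obtain ⟨t, ht⟩ := S.J.exists_trace (S.self_real y)
      obtain ⟨k, hk, hkz⟩ := hconj y hy t ht
      simp only [hν1, AlgEquiv.one_apply] at hkz
      have hsymm1 : ∀ c : K, (1 : K ≃ₐ[F] K).symm c = c := fun c => rfl
      simp only [hsymm1] at hkz
      obtain ⟨r, hr, hrz⟩ := S.exists_rad hx hy ht
      let ψ : Module.End F K :=
        { toFun := fun a => S.H (a • x1) y - S.H (h⁻¹ (a • x1)) y
          map_add' := fun a b => by
            rw [add_smul, map_add, S.add_left, S.add_left]; abel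
          map_smul' := fun s a => by
            rw [smul_assoc, map_smul, ← algebraMap_smul K s, ← algebraMap_smul K s (h⁻¹ (a • x1)),
              RingHom.id_apply, Algebra.smul_def, mul_sub]
            simp only [S.smul_left] }
      have hψ : S.J.hadj ψ = -φ := S.J.hadj_eq fun a b => by
        show Algebra.trace F K ((S.H (a • x1) y - S.H (h⁻¹ (a • x1)) y) * S.J.s b) =
          Algebra.trace F K (a * S.J.s (-φ b))
        rw [hφ, sub_mul, map_sub, mul_comm _ (S.J.s b), ← S.smul_right, mul_comm _ (S.J.s b),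
          ← S.smul_right, map_neg, ← S.herm, mul_neg, map_neg, ← S.smul_left]
        show _ - S.f (h⁻¹ (a • x1)) (b • y) = -S.f (a • x1) (h (b • y) - b • y)
        rw [S.f_inv hh.1]
        simp only [f, S.sub_right, map_sub, neg_sub]
      have hdiff : ∀ z, k z = S.root x ((S.J.eF⁻¹) • (φ + ψ)) (r z) := by
        intro z
        rw [S.root_apply hx]
        have hzx : S.H (r z) x = S.H z x := by
          simp only [hrz, S.add_left, S.sub_left, S.smul_left, hx, S.mem_perp.1 hy, mul_zero,
            add_zero, sub_zero]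
        rw [hzx, LinearMap.smul_apply, LinearMap.add_apply, Algebra.smul_def, map_inv₀,
          show S.J.eps * ((algebraMap F K S.J.eF)⁻¹ * (φ (S.H z x) + ψ (S.H z x))) =
            φ (S.H z x) + ψ (S.H z x) from mul_inv_cancel_left₀ S.J.eps_ne _]
        show _ = _ + (φ (S.H z x) + (S.H (S.H z x • x1) y - S.H (h⁻¹ (S.H z x • x1)) y)) • x
        rw [hφ, hkz, hrz]
        set α := S.H z x
        have hz0 : z - α • x1 ∈ S.perp x := S.decomp hx1 z
        have hz0' : h⁻¹ (z - α • x1) - (z - α • x1) ∈ Submodule.span K {x} := by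
          set w := h⁻¹ (z - α • x1) with hw
          have hwp : w ∈ S.perp x := by
            rw [mem_perp, hw, S.H_inv hh.1 hP, S.mem_perp.1 hz0, map_zero]
          have h2 := hquot w hwp
          rw [hw, apply_inv_self', ← hw] at h2
          rw [Submodule.mem_span_singleton]
          refine ⟨-S.H (z - α • x1 - w) x1, ?_⟩
          linear_combination (norm := module) h2
        obtain ⟨s, hs⟩ := Submodule.mem_span_singleton.1 hz0'
        have h3 : S.H (h⁻¹ (z - α • x1) - (z - α • x1)) y = 0 := by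
          rw [← hs, S.smul_left, S.orth_symm hy, mul_zero]
        rw [map_sub, S.sub_left, S.sub_left, S.sub_left] at h3
        have h4 := hquot (α • y) (Submodule.smul_mem _ _ hy)
        have h5 : S.H (h⁻¹ z) y = S.H z y - S.H (α • x1) y + S.H (h⁻¹ (α • x1)) y := by
          linear_combination h3
        rw [h5]
        conv_lhs => rw [h4]
        module
      obtain ⟨u, hu⟩ := hroot ((S.J.eF⁻¹) • (φ + ψ)) (by
        have : S.root x ((S.J.eF⁻¹) • (φ + ψ)) = k * r⁻¹ := by
          rw [eq_mul_inv_iff_mul_eq]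
          exact LinearEquiv.ext fun z => (hdiff z).symm
        rw [this]
        exact S.M.mul_mem hk (S.M.inv_mem hr))
      refine ⟨algebraMap F K S.J.eF * u, ?_⟩
      have h1 : φ + ψ = S.J.eF • Algebra.lmul F K u := by
        rw [← hu, smul_smul, mul_inv_cancel₀ S.J.eF_ne, one_smul]
      have h2 : S.J.hadj φ = -ψ := by
        have h3 : S.J.hadj (S.J.hadj ψ) = S.J.hadj (-φ) := by rw [hψ]
        rw [S.J.hadj_hadj] at h3
        have h4 : S.J.hadj (-φ) + S.J.hadj φ = 0 := by
          rw [← S.J.hadj_add, neg_add_cancel]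
          have := S.J.hadj_mu (0 : K); rwa [map_zero, map_zero, map_zero] at this
        rw [← h3] at h4
        exact eq_neg_of_add_eq_zero_right h4
      rw [h2, sub_neg_eq_add, h1, map_mul, AlgHom.commutes, ← Algebra.smul_def]
    intro y hy a
    let φ : Module.End F K :=
      { toFun := fun b => S.H (h (b • y) - b • y) x1
        map_add' := fun b c => by
          rw [add_smul, map_add, add_sub_add_comm, S.add_left]
        map_smul' := fun s b => by
          rw [smul_assoc, map_smul h, ← smul_sub, ← algebraMap_smul K s, S.smul_left,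
            RingHom.id_apply, Algebra.smul_def] }
    have h1 := S.J.comm_of_skew φ (fun d hd => hsym (d • y) (Submodule.smul_mem _ _ hy) _ fun b => by
      show S.H (h ((d * b) • y) - (d * b) • y) x1 = _
      rw [mul_comm, mul_smul]) a
    show S.H (h (a • y) - a • y) x1 = a * S.H (h y - y) x1
    have h2 : S.H (h (a • y) - a • y) x1 = a * S.H (h ((1 : K) • y) - (1 : K) • y) x1 := h1
    rwa [one_smul] at h2
  intro y hy
  rw [hquot y hy]
  suffices h0 : S.H (h y - y) x1 = 0 by rw [h0, zero_smul, add_zero]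
  rw [← hspan] at hy
  induction hy using Submodule.span_induction with
  | mem z hz => rw [hh.2 z hz, sub_self, S.zero_left]
  | zero => rw [map_zero, sub_zero, S.zero_left]
  | add a b _ _ ha hb => rw [map_add, add_sub_add_comm, S.add_left, ha, hb, add_zero]
  | smul c a ha' ha => rw [hlin a (hspan ▸ ha') c, ha, mul_zero]

/-- Every element maps singular lines to singular lines. -/
theorem line_to_line (hall : S.AllScalar) {v : V} (hv0 : v ≠ 0) (hv : S.H v v = 0) {g : V ≃ₗ[F] V}
    (hg : g ∈ S.M) : S.H (g v) (g v) = 0 ∧ ∀ c : K, g (c • v) ∈ Submodule.span K {g v} := by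
  classical
  haveI := S.nontrivial
  haveI : FiniteDimensional F V := Module.Finite.of_finite
  haveI : FiniteDimensional K V := Module.Finite.of_finite
  haveI : FiniteDimensional F K := Module.Finite.of_finite
  have hgv0 : g v ≠ 0 := fun h => hv0 (g.map_eq_zero_iff.1 h)
  have hts : ∀ a b : K, S.f (g (a • v)) (g (b • v)) = 0 := fun a b => by
    rw [S.f_iso hg, f, S.smul_left, S.smul_right, hv, mul_zero, mul_zero, map_zero]
  by_cases hline : ∀ c : K, g (c • v) ∈ Submodule.span K {g v}
  · obtain ⟨P, hP⟩ := exists_lineMap (g := g) hv0 hgv0 hline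
    refine ⟨trace_ext (F := F) fun a => ?_, hline⟩
    rw [mul_zero, map_zero]
    have h : ∀ u : K, S.J.s u = u → Algebra.trace F K (u * S.H (g v) (g v)) = 0 := fun u hu => by
      obtain ⟨b, hb⟩ := S.J.exists_norm hu
      obtain ⟨b', rfl⟩ := P.surjective b
      have h1 := hts b' b'
      rwa [hP, f, S.smul_left, S.smul_right, ← mul_assoc, hb] at h1
    obtain ⟨a1, a2, ha1, ha2, rfl⟩ := S.J.exists_coords a
    rw [add_mul, map_add, h a1 ha1, zero_add, mul_assoc, ← Algebra.smul_def, map_smul, h a2 ha2,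
      smul_zero]
  exfalso
  set L : Submodule F V := (Submodule.span K {v}).restrictScalars F |>.map (g : V →ₗ[F] V) with hL
  set A := S.moved g v with hA
  have hLA : ∀ l ∈ L, ∀ z ∈ A, S.f l z = 0 := by
    rintro _ ⟨u, hu, rfl⟩ _ ⟨w, hw, rfl⟩
    obtain ⟨c, rfl⟩ := Submodule.mem_span_singleton.1 hu
    show S.f (g (c • v)) (g w) = 0
    rw [S.f_iso hg, f, S.smul_left, S.orth_symm hw, mul_zero, map_zero]
  have hvA : ∀ c : K, g (c • v) ∈ A := fun c =>
    S.mem_moved.2 (by rw [inv_apply_self]; exact Submodule.smul_mem _ _ hv)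
  obtain ⟨x0, hx0L, hx00, hx0s⟩ := S.exists_singular_mem L (by
    rintro _ ⟨u, hu, rfl⟩ _ ⟨w, hw, rfl⟩
    obtain ⟨a, rfl⟩ := Submodule.mem_span_singleton.1 hu
    obtain ⟨b, rfl⟩ := Submodule.mem_span_singleton.1 hw
    exact hts a b) (le_of_eq (by
      rw [hL, (LinearEquiv.submoduleMap g ((Submodule.span K {v}).restrictScalars F)).symm.finrank_eq]
      show finrank F K = finrank F (Submodule.span K {v})
      rw [← Module.finrank_mul_finrank F K (Submodule.span K {v}), finrank_span_singleton hv0,
        mul_one]))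
  obtain ⟨δ, hδ⟩ : ∃ δ : K, g (δ • v) = x0 := by
    obtain ⟨u, hu, hux⟩ := hx0L
    obtain ⟨c, rfl⟩ := Submodule.mem_span_singleton.1 hu
    exact ⟨c, hux⟩
  have hδ0 : δ ≠ 0 := fun h => hx00 (by rw [← hδ, h, zero_smul, map_zero])
  have hx0A : x0 ∈ A := hδ ▸ hvA δ
  have hdimA := S.finrank_moved (g := g) hv0
  rw [← hA] at hdimA
  by_cases hKx0 : ∀ c : K, c • x0 ∈ A
  · -- all of the line of `x0`
    have hLperp : ∀ l ∈ L, S.H l x0 = 0 := fun l hl => by
      refine S.orth_symm (S.eq_zero_of_trace fun c => ?_)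
      rw [S.f_swap, hLA l hl _ (hKx0 c), map_zero]
    obtain ⟨w, hwA, hw⟩ : ∃ w ∈ A, S.H w x0 ≠ 0 := by
      by_contra hcon
      push Not at hcon
      have heq : A = (S.perp x0).restrictScalars F := by
        refine Submodule.eq_of_le_of_finrank_le (fun z hz => hcon z hz) (le_of_eq ?_)
        have h1 : finrank F (S.perp x0) + finrank F K = finrank F K * finrank K V := by
          rw [← Module.finrank_mul_finrank F K (S.perp x0), ← S.finrank_perp hx00, mul_add, mul_one]
        show finrank F (S.perp x0) = _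
        omega
      obtain ⟨x1, hx1, -, -⟩ := S.exists_sing_partner hx00 hx0s
      have hKL : ∀ l ∈ L, l = S.H l x1 • x0 := fun l hl => S.eq_smul_of_perp hx1 fun y hy =>
        hLA l hl y (heq ▸ hy)
      refine hline fun c => ?_
      have hlin : ∀ u : K, g (u • v) = S.H (g (u • v)) x1 • x0 := fun u =>
        hKL _ ⟨u • v, Submodule.smul_mem _ _ (Submodule.mem_span_singleton_self v), rfl⟩
      have h1 := hlin 1
      rw [one_smul] at h1
      have hne : S.H (g v) x1 ≠ 0 := fun h => hgv0 (by rw [h1, h, zero_smul])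
      rw [hlin c, Submodule.mem_span_singleton]
      refine ⟨S.H (g (c • v)) x1 / S.H (g v) x1, ?_⟩
      refine (congrArg ((S.H (g (c • v)) x1 / S.H (g v) x1) • ·) h1).trans ?_
      show (_ / _) • (S.H (g v) x1 • x0) = _
      rw [smul_smul, div_mul_cancel₀ _ hne]
    obtain ⟨t, ht⟩ := S.J.exists_trace (S.self_real w)
    have hw' : S.J.s (S.H w x0) ≠ 0 := (map_ne_zero _).2 hw
    set x := w + (t / S.J.s (S.H w x0)) • x0 with hxdef
    have hxA : x ∈ A := A.add_mem hwA (hKx0 _)
    have hxx : S.H x x = 0 := by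
      simp only [hxdef, S.add_left, S.add_right, S.smul_left, S.smul_right, hx0s, map_div₀,
        S.J.invol, mul_zero, add_zero]
      rw [← S.herm w x0, div_mul_cancel₀ t (show S.H x0 w ≠ 0 by rw [S.herm]; exact hw'),
        div_mul_cancel₀ _ hw]
      linear_combination ht
    have hxne : S.H x x0 ≠ 0 := by
      simp only [hxdef, S.add_left, S.smul_left, hx0s, mul_zero, add_zero]; exact hw
    obtain ⟨c0, hc0⟩ : ∃ c0 : K, c0 • x ∉ A := by
      by_contra h
      push Not at h
      refine hxne (S.eq_zero_of_trace fun c => ?_)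
      rw [S.f_swap, hLA x0 hx0L _ (h c), map_zero]
    rcases S.dims with hm | ⟨hm, -⟩
    · exact S.ti_contra hall hv0 hv hg (fun h => hxne (by rw [h, S.zero_left])) hxx hxA hc0
        (Or.inr hm)
    · have hperpv : S.perp v = Submodule.span K {v} := by
        refine (Submodule.eq_of_le_of_finrank_le
          ((Submodule.span_singleton_le_iff_mem _ _).2 hv) ?_).symm
        rw [finrank_span_singleton hv0]
        have := S.finrank_perp hv0
        omega
      have : x ∈ L := by
        rw [hL, ← hperpv]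
        exact hxA
      exact hxne (hLperp x this)
  push Not at hKx0
  obtain ⟨c0, hc0⟩ := hKx0
  by_cases hsec : ∃ a : K, a ∉ Set.range (algebraMap F K) ∧ a • x0 ∈ A
  · exact S.ti_contra hall hv0 hv hg hx00 hx0s hx0A hc0 (Or.inl hsec)
  rcases S.dims with hm | ⟨hm, -⟩
  · exact S.ti_contra hall hv0 hv hg hx00 hx0s hx0A hc0 (Or.inr hm)
  push Not at hsec
  -- two dimensions: another conjugate
  let α : K →ₗ[F] K :=
    { toFun := fun a => S.H (g⁻¹ (a • x0)) v
      map_add' := fun a b => by rw [add_smul, map_add, S.add_left]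
      map_smul' := fun s a => by
        rw [smul_assoc, map_smul, ← algebraMap_smul K s, S.smul_left, RingHom.id_apply,
          Algebra.smul_def] }
  have hker : finrank F (LinearMap.ker α) ≤ 1 := by
    refine finrank_le_one (⟨1, by
      rw [LinearMap.mem_ker]
      show S.H (g⁻¹ ((1 : K) • x0)) v = 0
      rw [one_smul]; exact S.mem_moved.1 hx0A⟩ : LinearMap.ker α) fun ⟨a, ha⟩ => ?_
    obtain ⟨s, hs⟩ : a ∈ Set.range (algebraMap F K) := by
      by_contra hns
      exact hsec a hns (S.mem_moved.2 ha)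
    exact ⟨s, Subtype.ext (by show s • (1 : K) = a; rw [← hs, Algebra.algebraMap_eq_smul_one])⟩
  have hran := LinearMap.finrank_range_add_finrank_ker α
  have hker1 : 1 ≤ finrank F (LinearMap.ker α) := Submodule.one_le_finrank_iff.2
    ((Submodule.ne_bot_iff _).2 ⟨1, by
      rw [LinearMap.mem_ker]
      show S.H (g⁻¹ ((1 : K) • x0)) v = 0
      rw [one_smul]; exact S.mem_moved.1 hx0A, one_ne_zero⟩)
  have hrange : LinearMap.range α < ⊤ := by
    rw [lt_top_iff_ne_top]
    intro h
    rw [h, finrank_top] at hran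
    omega
  obtain ⟨ψ, hψ0, hψ⟩ := Submodule.exists_dual_map_eq_bot_of_lt_top hrange inferInstance
  obtain ⟨w, hwψ⟩ := (Cfsg.Agent.Lib.K41.ExtForm.dualEquiv (F := F) (K := K)).surjective ψ
  have hwr : ∀ y, Algebra.trace F K (w * y) = 0 → y ∈ LinearMap.range α := by
    intro y hy
    have hle : LinearMap.range α ≤ LinearMap.ker ψ := fun z hz =>
      LinearMap.mem_ker.2 ((Submodule.eq_bot_iff _).1 hψ (ψ z) ⟨z, hz, rfl⟩)
    have heq := Submodule.eq_of_le_of_finrank_le hle (by
      have := Module.Dual.finrank_ker_add_one_of_ne_zero hψ0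
      omega)
    rw [heq, LinearMap.mem_ker, ← hwψ, Cfsg.Agent.Lib.K41.ExtForm.dualEquiv_apply]
    exact hy
  obtain ⟨u, hu, hu0, huw⟩ := S.exists_real_trace_zero (w * (δ / S.J.eps))
  obtain ⟨a, ha⟩ := hwr (δ / S.J.eps * u) (by rw [← mul_assoc]; exact huw)
  set k := g * S.root v (Algebra.lmul F K u⁻¹) * g⁻¹ with hk
  have hkM : k ∈ S.M :=
    S.M.mul_mem (S.M.mul_mem hg (S.root_mu_mem hv (by rw [map_inv₀, hu]))) (S.M.inv_mem hg)
  have hkz : ∀ c : K, k (c • x0) = c • x0 + g ((S.J.eps * (u⁻¹ * α c)) • v) := fun c => by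
    show g (S.root v _ (g⁻¹ (c • x0))) = _
    rw [S.root_apply hv, map_add, apply_inv_self']
    rfl
  have hkx : k x0 = x0 := by
    show g (S.root v _ (g⁻¹ x0)) = x0
    rw [S.root_fix hv _ (S.mem_moved.1 hx0A), apply_inv_self']
  have hka : k (a • x0) = (a + 1) • x0 := by
    rw [hkz, show α a = δ / S.J.eps * u from ha,
      show S.J.eps * (u⁻¹ * (δ / S.J.eps * u)) = δ by field_simp [S.J.eps_ne], hδ, add_smul,
      one_smul]
  have haF : a + 1 ∉ Set.range (algebraMap F K) := by
    rintro ⟨s, hs⟩
    have hax : α a = 0 := by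
      have ha' : a = algebraMap F K (s - 1) := by rw [map_sub, hs, map_one, add_sub_cancel_right]
      show S.H (g⁻¹ (a • x0)) v = 0
      rw [ha', algebraMap_smul]
      exact S.mem_moved.1 (A.smul_mem _ hx0A)
    rw [show α a = δ / S.J.eps * u from ha] at hax
    exact mul_ne_zero (div_ne_zero hδ0 S.J.eps_ne) hu0 hax
  have hperp : S.perp x0 = Submodule.span K {x0} := by
    refine (Submodule.eq_of_le_of_finrank_le
      ((Submodule.span_singleton_le_iff_mem _ _).2 hx0s) ?_).symm
    rw [finrank_span_singleton hx00]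
    have := S.finrank_perp hx00
    omega
  have hmv : ∀ c : K, k (c • x0) ∈ S.moved k x0 := fun c =>
    S.mem_moved.2 (by rw [inv_apply_self]; exact Submodule.smul_mem _ _ hx0s)
  obtain ⟨d, hd⟩ : ∃ d : K, d • x0 ∉ S.moved k x0 := by
    by_contra h
    push Not at h
    have hle : (Submodule.span K {x0}).restrictScalars F ≤ S.moved k x0 := fun z hz => by
      obtain ⟨c, rfl⟩ := Submodule.mem_span_singleton.1 hz
      exact h c
    have heq := Submodule.eq_of_le_of_finrank_le hle (by
      rw [moved, (LinearEquiv.submoduleMap k ((S.perp x0).restrictScalars F)).symm.finrank_eq, hperp])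
    -- the range of `α` is then a line
    have hsub : ∀ c, ∃ s : F, S.J.eps * (u⁻¹ * α c) = s • δ := fun c => by
      have h1 := hmv c
      rw [← heq, hkz] at h1
      have h2 : g ((S.J.eps * (u⁻¹ * α c)) • v) ∈ Submodule.span K {x0} := by
        simpa using (Submodule.span K {x0}).sub_mem h1
          (Submodule.smul_mem _ c (Submodule.mem_span_singleton_self x0))
      obtain ⟨b, hb⟩ := Submodule.mem_span_singleton.1 h2
      obtain ⟨s, hs⟩ : b ∈ Set.range (algebraMap F K) := by
        by_contra hns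
        exact hsec b hns (by rw [hb]; exact hvA _)
      refine ⟨s, ?_⟩
      rw [← hs, algebraMap_smul, ← hδ, ← map_smul, ← smul_assoc] at hb
      exact (smul_left_injective K hv0 (g.injective hb)).symm
    have hle2 : LinearMap.range α ≤ Submodule.span F {u * δ / S.J.eps} := by
      rintro _ ⟨c, rfl⟩
      obtain ⟨s, hs⟩ := hsub c
      rw [Submodule.mem_span_singleton]
      refine ⟨s, ?_⟩
      rw [Algebra.smul_def] at hs ⊢
      field_simp [S.J.eps_ne] at hs ⊢
      linear_combination -hs
    have h3 := Submodule.finrank_mono hle2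
    rw [finrank_span_singleton (div_ne_zero (mul_ne_zero hu0 hδ0) S.J.eps_ne)] at h3
    have := S.three_le_r
    omega
  refine S.ti_contra hall hx00 hx0s hkM hx00 hx0s (by have := hmv 1; rwa [one_smul, hkx] at this)
    hd (Or.inl ⟨a + 1, haF, ?_⟩)
  rw [← hka]
  exact hmv a

/-- **Step 1.** -/
theorem exists_nonscalar (hnot : ∃ g ∈ S.M, ¬ IsSemi F K g) :
    ∃ (e : V) (he : S.H e e = 0), e ≠ 0 ∧ ∃ T ∈ S.params he, ∀ t, T ≠ Algebra.lmul F K t := by
  by_contra hcon
  push Not at hcon
  have hall : S.AllScalar := fun e he he0 T hT => hcon e he he0 T hT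
  obtain ⟨g, hg, hns⟩ := hnot
  apply hns
  have hline : ∀ v : {v : V // v ≠ 0 ∧ S.H v v = 0},
      ∃ ν : K ≃ₐ[F] K, ∀ c : K, g (c • v.1) = ν c • g v.1 := by
    rintro ⟨v, hv0, hv⟩
    obtain ⟨h1, h2⟩ := S.line_to_line hall hv0 hv hg
    exact S.aut_of_line hall hg hv0 (fun h => hv0 (g.map_eq_zero_iff.1 h)) hv h1 rfl h2
  choose N hN using hline
  have hpair : ∀ v w : {v : V // v ≠ 0 ∧ S.H v v = 0}, S.H v.1 w.1 ≠ 0 → N v = N w := by
    rintro ⟨v, hv0, hv⟩ ⟨w, hw0, hw⟩ hvw
    set μ := S.J.s (S.J.eps / S.H v w)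
    have hμ : μ ≠ 0 := (map_ne_zero _).2 (div_ne_zero S.J.eps_ne hvw)
    have hvμ : S.H v (μ • w) = S.J.eps := by
      rw [S.smul_right, S.J.invol, div_mul_cancel₀ _ hvw]
    set u := v + μ • w with hu
    have huu : S.H u u = 0 := by
      rw [hu, S.add_left, S.add_right, S.add_right, hv, hvμ, S.herm v (μ • w), hvμ, S.J.s_eps,
        S.smul_left, S.smul_right, hw]
      ring
    have hu0 : u ≠ 0 := fun h => by
      have h1 := congrArg (fun z => S.H v z) h
      simp only [hu, S.add_right, hv, hvμ, zero_add, S.zero_right] at h1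
      exact S.J.eps_ne h1
    refine AlgEquiv.ext fun c => ?_
    have h1 := hN ⟨u, hu0, huu⟩ c
    simp only [hu, smul_add, map_add, smul_smul] at h1
    rw [hN ⟨v, hv0, hv⟩, hN ⟨w, hw0, hw⟩, hN ⟨w, hw0, hw⟩ μ, map_mul, smul_smul] at h1
    have hind : ∀ a b : K, a • g v = b • g w → a = 0 ∧ b = 0 := by
      intro a b hab
      by_cases ha : a = 0
      · subst ha
        rw [zero_smul] at hab
        exact ⟨rfl, (smul_eq_zero.1 hab.symm).resolve_right fun h => hw0 (g.map_eq_zero_iff.1 h)⟩
      exfalso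
      obtain ⟨a', ha'⟩ := (N ⟨v, hv0, hv⟩).surjective a
      obtain ⟨b', hb'⟩ := (N ⟨w, hw0, hw⟩).surjective b
      rw [← ha', ← hb', ← hN ⟨v, hv0, hv⟩, ← hN ⟨w, hw0, hw⟩] at hab
      have h2 := congrArg (fun z => S.H v z) (g.injective hab)
      simp only [S.smul_right, hv, mul_zero] at h2
      rcases mul_eq_zero.1 h2.symm with h3 | h3
      · have hb0 : b' = 0 := (map_eq_zero S.J.s).1 h3
        rw [hb0, zero_smul] at hab
        have ha0 : a' = 0 := (smul_eq_zero.1 (g.injective hab)).resolve_right hv0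
        exact ha (by rw [← ha', ha0, map_zero])
      · exact hvw h3
    obtain ⟨e1, e2⟩ := hind (N ⟨v, hv0, hv⟩ c - N ⟨v + μ • w, hu0, huu⟩ c)
      ((N ⟨v + μ • w, hu0, huu⟩ c - N ⟨w, hw0, hw⟩ c) * N ⟨w, hw0, hw⟩ μ) (by
        linear_combination (norm := module) h1)
    have e3 := (mul_eq_zero.1 e2).resolve_right (by simpa using hμ)
    rw [sub_eq_zero] at e1 e3
    exact e1.trans e3
  obtain ⟨e, he0, he⟩ := S.exists_singular
  obtain ⟨e', h1, h2, h3⟩ := S.exists_sing_partner he0 he
  have he'0 : e' ≠ 0 := fun h => by rw [h, S.zero_left] at h1; exact zero_ne_one h1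
  set ν := N ⟨e, he0, he⟩ with hν
  have hsing : ∀ v, S.H v v = 0 → ∀ c : K, g (c • v) = ν c • g v := by
    intro v hv c
    by_cases hv0 : v = 0
    · subst hv0; simp
    by_cases hve : S.H v e = 0
    swap
    · rw [hN ⟨v, hv0, hv⟩, hpair _ ⟨e, he0, he⟩ hve]
    by_cases hve' : S.H v e' = 0
    swap
    · rw [hN ⟨v, hv0, hv⟩, hpair _ ⟨e', he'0, h3⟩ hve',
        hpair ⟨e', he'0, h3⟩ ⟨e, he0, he⟩ (by rw [h1]; exact one_ne_zero)]
    have hee : S.H e' (v + e) ≠ 0 := by
      rw [S.add_right, h1, S.orth_symm hve', zero_add]; exact one_ne_zero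
    have hs : S.H (v + e) (v + e) = 0 := by
      rw [S.add_left, S.add_right, S.add_right, hv, hve, S.orth_symm hve, he]; ring
    have hne : v + e ≠ 0 := fun h => by rw [h, S.zero_right] at hee; exact hee rfl
    have hνν : N ⟨v + e, hne, hs⟩ = ν := by
      rw [← hpair ⟨e', he'0, h3⟩ ⟨v + e, hne, hs⟩ hee,
        hpair ⟨e', he'0, h3⟩ ⟨e, he0, he⟩ (by rw [h1]; exact one_ne_zero)]
    have h4 := hN ⟨v + e, hne, hs⟩ c
    simp only [hνν, smul_add, map_add] at h4
    rw [hN ⟨e, he0, he⟩ c, ← hν, add_left_inj] at h4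
    exact h4
  intro c
  refine ⟨ν c, fun z => ?_⟩
  set z0 := z - S.H z e • e' - S.H z e' • e with hz0
  have hz0e : S.H z0 e = 0 := by
    rw [hz0, S.sub_left, S.sub_left, S.smul_left, S.smul_left, h1, he]; ring
  have hz0e' : S.H z0 e' = 0 := by
    rw [hz0, S.sub_left, S.sub_left, S.smul_left, S.smul_left, h2, h3]; ring
  obtain ⟨t, ht⟩ := S.J.exists_trace (S.self_real z0)
  set zt := z0 + t • e + e' with hzt
  have hzts : S.H zt zt = 0 := by
    simp only [hzt, S.add_left, S.add_right, S.smul_left, S.smul_right, he, h3, h1, h2, hz0e, hz0e',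
      S.orth_symm hz0e, S.orth_symm hz0e']
    linear_combination ht
  have hz : z = zt + (S.H z e' - t) • e + (S.H z e - 1) • e' := by
    rw [hzt, hz0]; module
  have hbe : ∀ b : K, g (c • b • e) = ν c • g (b • e) := fun b =>
    hsing _ (by rw [S.smul_left, S.smul_right, he]; ring) c
  have hbe' : ∀ b : K, g (c • b • e') = ν c • g (b • e') := fun b =>
    hsing _ (by rw [S.smul_left, S.smul_right, h3]; ring) c
  rw [hz, smul_add, smul_add, map_add, map_add, map_add, map_add, hsing zt hzts, hbe, hbe',
    smul_add, smul_add]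

end Setting

end Cfsg.Agent.Lib.UnitExt
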